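import Cfsg.Agent.Lib.Classical.TensorMaxS.Rad
import Cfsg.Agent.Lib.Classical.OrthMaxND

/-!
# One Siegel element with pure parameters gives all of them
-/

set_option autoImplicit false
set_option linter.unusedSectionVars false

namespace CfsgLib.Classical.TensorMaxS

open Matrix Module QuadraticMap CfsgLib.Orth CfsgLib.Classical
open CfsgLib.Classical.TensorMax (IsTensor)

variable {F : Type*} [Field F]

theorem exists_dual_sub {n : ℕ} {B : (Fin n → F) →ₗ[F] (Fin n → F) →ₗ[F] F} (hA : B.IsAlt) (hN : B.Nondegenerate)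
    {W : Submodule F (Fin n → F)} {c : Fin n → F} (hc : c ∉ W) : ∃ y, B c y = 1 ∧ ∀ r ∈ W, B r y = 0 := by
  obtain ⟨φ, hφc, hφW⟩ := Submodule.exists_dual_map_eq_bot_of_notMem hc inferInstance
  obtain ⟨y, hy⟩ := (LinearMap.BilinForm.toDual B hN).surjective (-((φ c)⁻¹ • φ))
  have e : ∀ x, B x y = (φ c)⁻¹ * φ x := fun x => by
    have h1 : B y x = -((φ c)⁻¹ * φ x) := by
      rw [show B y x = LinearMap.BilinForm.toDual B hN y x from rfl, hy]
      simp
    rw [alt_swap hA x, h1, neg_neg]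
  refine ⟨y, by rw [e, inv_mul_cancel₀ hφc], fun r hr => ?_⟩
  have h0 := Submodule.mem_map_of_mem (f := φ) hr
  rw [hφW, Submodule.mem_bot] at h0
  rw [e, h0, mul_zero]

variable [Fintype F] {a b : ℕ} {Q : QuadraticForm F (Matrix (Fin a) (Fin b) F)}
  {f : (Fin a → F) →ₗ[F] (Fin a → F) →ₗ[F] F} {h : (Fin b → F) →ₗ[F] (Fin b → F) →ₗ[F] F}
  {M : Subgroup (orthGroup Q)}

/-- Exchanging the parameters of a Siegel element. -/
theorem siegelIn_swap (hnd : (polarBilin Q).Nondegenerate) {d e : Matrix (Fin a) (Fin b) F} (hd : Q d = 0)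
    (he : Q e = 0) (hde : polar Q d e = 0) (hse : SiegelIn M d e) : SiegelIn M e d := by
  intro g hg
  obtain ⟨k, hk⟩ := exists_isSiegel hnd hd hde
  have e1 : g * k = 1 := Subtype.ext (LinearEquiv.ext fun X => by
    show g.1 (k.1 X) = X
    rw [hg.2.2, hk.2.2, hd, he]
    simp only [polar_add_right, polar_smul_r', polar_self', hd, he, hde, polar_comm _ e d]
    module)
  rw [eq_inv_of_mul_eq_one_left e1]
  exact M.inv_mem (hse k hk)

namespace Model

variable (hm : Model Q f h) (hMc : ∀ A : isomGroup f, hm.col A ∈ M) (hMr : ∀ C : isomGroup h, hm.row C ∈ M)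
include hm hMc hMr

/-- From one orientation, all pairs with a common first factor. -/
theorem all_first (hs : Start₁ M h) (u : Fin a → F) {w w' : Fin b → F} (hww : h w w' = 0) :
    SiegelIn M (vecMulVec u w) (vecMulVec u w') := by
  obtain ⟨u₀, w₀, w₀', hu₀, hw₀, hind, hw00, hS⟩ := hs
  rcases eq_or_ne u 0 with rfl | hu
  · rw [zero_vecMulVec]; exact fun g hg => AxIn.zero M _ g hg
  rcases eq_or_ne w 0 with rfl | hw
  · rw [TensorMax.vecMulVec_zero']; exact fun g hg => AxIn.zero M _ g hg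
  by_cases hw' : w' ∈ F ∙ w
  · obtain ⟨t, rfl⟩ := Submodule.mem_span_singleton.1 hw'
    rw [vecMulVec_smul]
    exact siegelIn_smul_self M (hm.pure u w) t
  obtain ⟨A, -, hA⟩ := tv_transitive hm.altf hm.ndf.1 hu₀ hu
  obtain ⟨C, hC, hC'⟩ := exists_isom_pair hm.alth hm.ndh hw₀ hind hw00 hw hw' hww
  have h1 := SiegelIn.conj (show SiegelIn M (vecMulVec u₀ w₀) (vecMulVec u₀ w₀') from hS)
    (M.mul_mem (hMr C) (hMc A))
  rwa [mul_apply', mul_apply', hm.col_pure, hm.col_pure, hm.row_pure, hm.row_pure, hA, hC, hC'] at h1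

/-- From the other orientation, all pairs with a common second factor. -/
theorem all_second (hs : Start₂ M f) {u u' : Fin a → F} (w : Fin b → F) (huu : f u u' = 0) :
    SiegelIn M (vecMulVec u w) (vecMulVec u' w) := by
  obtain ⟨u₀, u₀', w₀, hu₀, hind, hw₀, hu00, hS⟩ := hs
  rcases eq_or_ne u 0 with rfl | hu
  · rw [zero_vecMulVec]; exact fun g hg => AxIn.zero M _ g hg
  rcases eq_or_ne w 0 with rfl | hw
  · rw [TensorMax.vecMulVec_zero']; exact fun g hg => AxIn.zero M _ g hg
  by_cases hu' : u' ∈ F ∙ u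
  · obtain ⟨t, rfl⟩ := Submodule.mem_span_singleton.1 hu'
    rw [smul_vecMulVec]
    exact siegelIn_smul_self M (hm.pure u w) t
  obtain ⟨C, -, hC⟩ := tv_transitive hm.alth hm.ndh.1 hw₀ hw
  obtain ⟨A, hA, hA'⟩ := exists_isom_pair hm.altf hm.ndf hu₀ hind hu00 hu hu' huu
  have h1 := SiegelIn.conj (show SiegelIn M (vecMulVec u₀ w₀) (vecMulVec u₀' w₀) from hS)
    (M.mul_mem (hMr C) (hMc A))
  rwa [mul_apply', mul_apply', hm.col_pure, hm.col_pure, hm.row_pure, hm.row_pure, hC, hA, hA'] at h1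

/-- The two orientations are equivalent. -/
theorem start_first (hb : 3 ≤ b) (hs : Start₁ M h ∨ Start₂ M f) : Start₁ M h := by
  rcases hs with hs | hs
  · exact hs
  obtain ⟨u, u', c, hu, hind, hc, huu, hS⟩ := id hs
  have hB := fun {x x' : Fin a → F} (y : Fin b → F) (e : f x x' = 0) => hm.all_second hMc hMr hs y e
  have hu'0 : u' ≠ 0 := fun e => hind (by rw [e]; exact zero_mem _)
  obtain ⟨z₀, hz₀, hz₀'⟩ := exists_dual2 hm.altf hm.ndf (indep_swap hu hind)
  have key : ∀ c', h c' c ≠ 0 → SiegelIn M (vecMulVec u' c) (vecMulVec u' c') := by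
    intro c' hc'
    set z := -(h c' c)⁻¹ • z₀ with hz
    have hzu : f z u * h c' c = 1 := by
      rw [hz, map_smul, LinearMap.smul_apply, hm.fswap u z₀, hz₀, smul_eq_mul]
      field_simp
    have hzu' : f z u' = 0 := by rw [hz, map_smul, LinearMap.smul_apply, hm.fswap u' z₀, hz₀', neg_zero, smul_zero]
    clear_value z
    obtain ⟨g, hg⟩ := hm.exists_pure_siegel (u := z) (u' := u') (w := c') (w' := c') (by rw [hzu', zero_mul])
    have hgM : g ∈ M := hB c' hzu' g hg
    have h1 := SiegelIn.conj (show SiegelIn M (vecMulVec u c) (vecMulVec u' c) from hS) hgM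
    rw [hm.siegel_apply hg, hm.siegel_apply hg] at h1
    simp only [ct2_vecMulVec, map_smul, hm.altf u', hzu', hm.altf.isRefl _ _ huu] at h1
    simp only [smul_eq_mul, mul_zero, zero_mul, zero_smul, sub_zero, add_zero, mul_comm (h c' c), hzu, one_smul] at h1
    have hd1 : Q (vecMulVec u c + vecMulVec u' c') = 0 := by
      rw [quad_add', hm.pure, hm.pure, hm.pol, huu]; ring
    have hd2 : polar Q (vecMulVec u' c) (vecMulVec u c + vecMulVec u' c') = 0 := by
      rw [polar_add_right, hm.pol, hm.pol, hm.altf.isRefl _ _ huu, hm.altf u']; ring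
    have h2 := siegelIn_swap hm.nondeg hd1 (hm.pure u' c) (by rw [polar_comm]; exact hd2) h1
    have h3 := hB (x := u') (x' := -u) c (by rw [map_neg, hm.altf.isRefl _ _ huu, neg_zero])
    have h4 := SiegelIn.add hm.nondeg (hm.pure u' c) hd2
      (by rw [hm.pol, map_neg, hm.altf.isRefl _ _ huu, neg_zero, zero_mul]) h2 h3
    rwa [neg_vecMulVec, add_assoc, add_comm (vecMulVec u' c'), ← add_assoc, add_neg_cancel, zero_add] at h4
  obtain ⟨c', hc'⟩ := alt_exists_partner hm.ndh.1 hc
  have hc'c : h c' c ≠ 0 := by rw [hm.hswap c c', hc']; simp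
  obtain ⟨y, hy0, hy⟩ := TensorMax.exists_perp ((h c).prod (h c')) (by rw [finrank_prod, finrank_self]; omega)
  simp only [LinearMap.prod_apply, Function.prod, Prod.mk_eq_zero] at hy
  refine ⟨u', c, y, hu'0, hc, fun hmem => ?_, hy.1, ?_⟩
  · obtain ⟨t, ht⟩ := Submodule.mem_span_singleton.1 hmem
    have e := hy.2
    rw [← ht, map_smul, smul_eq_mul] at e
    exact hy0 (by rw [← ht, (mul_eq_zero.1 e).resolve_right hc'c, zero_smul])
  · have e1 := key (c' + y) (by rwa [map_add, LinearMap.add_apply, hm.alth.isRefl _ _ hy.1, add_zero])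
    have e2 := key (-c') (by rwa [map_neg, LinearMap.neg_apply, neg_ne_zero])
    have h0 : ∀ x, polar Q (vecMulVec u' c) (vecMulVec u' x) = 0 := fun x => by rw [hm.pol, hm.altf u', zero_mul]
    have h4 := SiegelIn.add hm.nondeg (hm.pure u' c) (h0 _) (h0 _) e1 e2
    rwa [← vecMulVec_add, add_comm c' y, add_neg_cancel_right] at h4

/-- All Siegel elements at a pure vector. -/
theorem ax_pure (hb : 5 ≤ b) (hs : Start₁ M h) (u : Fin a → F) (w : Fin b → F) : AxIn M (vecMulVec u w) := by
  classical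
  have hA := fun (x : Fin a → F) {y y' : Fin b → F} (e : h y y' = 0) => hm.all_first hMc hMr hs x e
  have step1' : ∀ (u : Fin a → F) (w : Fin b → F) (z : Fin a → F) (y : Fin b → F), f z u ≠ 0 → h w y = 0 →
      SiegelIn M (vecMulVec u w) (vecMulVec z y) := by
    intro u w z y hzu hwy
    obtain ⟨y₁, hy₁, hy₁n⟩ : ∃ y₁ ∈ LinearMap.ker ((h w).prod (h y)), y₁ ∉ Submodule.span F {w, y} := by
      by_contra! hall
      have h1 := Submodule.finrank_mono (show LinearMap.ker ((h w).prod (h y)) ≤ Submodule.span F {w, y} from hall)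
      have h2 := ((h w).prod (h y)).finrank_range_add_finrank_ker
      have h3 := Submodule.finrank_le (LinearMap.range ((h w).prod (h y)))
      rw [finrank_prod, finrank_self] at h3
      rw [finrank_fin_fun] at h2
      have h4 : finrank F (Submodule.span F {w, y}) ≤ 2 := by
        refine (finrank_span_le_card (R := F) ({w, y} : Set (Fin b → F))).trans ?_
        simp only [Set.toFinset_insert, Set.toFinset_singleton]
        exact Finset.card_insert_le _ _
      omega
    simp only [LinearMap.mem_ker, LinearMap.prod_apply, Function.prod, Prod.mk_eq_zero] at hy₁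
    obtain ⟨w₀, hw₀, hw₀'⟩ := exists_dual_sub hm.alth hm.ndh hy₁n
    set w₁ := (f z u)⁻¹ • w₀ with hw₁
    have hww₁ : h w w₁ = 0 := by rw [hw₁, map_smul, hw₀' w (Submodule.subset_span (by simp)), smul_zero]
    have hyw₁ : h y w₁ = 0 := by rw [hw₁, map_smul, hw₀' y (Submodule.subset_span (by simp)), smul_zero]
    have hy₁w₁ : f z u * h y₁ w₁ = 1 := by
      rw [hw₁, map_smul, hw₀, smul_eq_mul, mul_one, mul_inv_cancel₀ hzu]
    clear_value w₁
    obtain ⟨g, hg⟩ := hm.exists_pure_siegel (u := z) (u' := z) (w := y₁) (w' := y)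
      (by rw [hm.altf z, zero_mul])
    have hgM : g ∈ M := hA z (hm.alth.isRefl _ _ hy₁.2) g hg
    have h1 := SiegelIn.conj (hA u (hm.alth.isRefl _ _ hww₁) : SiegelIn M (vecMulVec u w₁) (vecMulVec u w)) hgM
    rw [hm.siegel_apply hg, hm.siegel_apply hg] at h1
    simp only [ct2_vecMulVec, map_smul, hm.alth.isRefl _ _ hy₁.1, hm.alth.isRefl _ _ hwy, hyw₁] at h1
    simp only [smul_eq_mul, zero_mul, mul_zero, zero_smul, sub_zero, add_zero, mul_comm (h y₁ w₁), hy₁w₁, one_smul] at h1
    have hd1 : Q (vecMulVec u w₁ + vecMulVec z y) = 0 := by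
      rw [quad_add', hm.pure, hm.pure, hm.pol, hm.alth.isRefl _ _ hyw₁]; ring
    have hd2 : polar Q (vecMulVec u w) (vecMulVec u w₁ + vecMulVec z y) = 0 := by
      rw [polar_add_right, hm.pol, hm.pol, hm.altf u, hwy]; ring
    have h2 := siegelIn_swap hm.nondeg hd1 (hm.pure u w) (by rw [polar_comm]; exact hd2) h1
    have h3 := hA u (show h w (-w₁) = 0 by rw [map_neg, hww₁, neg_zero])
    have h4 := SiegelIn.add hm.nondeg (hm.pure u w) hd2 (by rw [hm.pol, hm.altf u, zero_mul]) h2 h3
    rwa [show vecMulVec u w₁ + vecMulVec z y + vecMulVec u (-w₁) = vecMulVec z y by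
      rw [show vecMulVec u (-w₁) = -vecMulVec u w₁ from Matrix.ext fun i j => by simp [vecMulVec_apply]]
      abel] at h4
  have step1 : ∀ (u : Fin a → F) (w : Fin b → F) (z : Fin a → F) (y : Fin b → F), h w y = 0 →
      SiegelIn M (vecMulVec u w) (vecMulVec z y) := by
    intro u w z y hwy
    rcases eq_or_ne u 0 with rfl | hu
    · rw [zero_vecMulVec]; exact fun g hg => AxIn.zero M _ g hg
    by_cases hzu : f z u = 0
    swap
    · exact step1' u w z y hzu hwy
    obtain ⟨n, hn⟩ := alt_exists_partner hm.ndf.1 hu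
    have hn' : f n u ≠ 0 := by rw [hm.fswap u n, hn]; simp
    have h0 : ∀ x, polar Q (vecMulVec u w) (vecMulVec x y) = 0 := fun x => by rw [hm.pol, hwy, mul_zero]
    have h4 := SiegelIn.add hm.nondeg (hm.pure u w) (h0 _) (h0 _)
      (step1' u w (z + n) y (by rwa [map_add, LinearMap.add_apply, hzu, zero_add]) hwy)
      (step1' u w (-n) y (by rwa [map_neg, LinearMap.neg_apply, neg_ne_zero]) hwy)
    rwa [← add_vecMulVec, add_neg_cancel_right] at h4
  have step2 : ∀ (z : Fin a → F) (p : Fin b → F), f u z = 0 → SiegelIn M (vecMulVec u w) (vecMulVec z p) := by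
    intro z p huz
    rcases eq_or_ne z 0 with rfl | hz
    · intro g hg
      rw [zero_vecMulVec] at hg
      rw [hg.unique (isSiegel_one (hm.pure u w))]
      exact M.one_mem
    obtain ⟨y₂, hy₂, hy₂n⟩ : ∃ y₂ ∈ LinearMap.ker ((h p).prod (h w)), y₂ ∉ F ∙ w := by
      by_contra! hall
      have h1 := Submodule.finrank_mono (show LinearMap.ker ((h p).prod (h w)) ≤ F ∙ w from hall)
      have h2 := ((h p).prod (h w)).finrank_range_add_finrank_ker
      have h3 := Submodule.finrank_le (LinearMap.range ((h p).prod (h w)))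
      rw [finrank_prod, finrank_self] at h3
      rw [finrank_fin_fun] at h2
      have h4 : finrank F (F ∙ w) ≤ 1 := by simpa using finrank_span_le_card (R := F) ({w} : Set (Fin b → F))
      omega
    simp only [LinearMap.mem_ker, LinearMap.prod_apply, Function.prod, Prod.mk_eq_zero] at hy₂
    obtain ⟨y₃, hy₂₃, hwy₃⟩ := exists_dual2 hm.alth hm.ndh hy₂n
    obtain ⟨z', hz'⟩ := alt_exists_partner hm.ndf.1 hz
    set z₂ : Fin a → F := -z with hz₂
    have hz₂z : f z₂ z' = -1 := by rw [hz₂, map_neg, LinearMap.neg_apply, hz']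
    clear_value z₂
    obtain ⟨g, hg⟩ := hm.exists_pure_siegel (u := z) (u' := z₂) (w := p) (w' := y₂) (by rw [hy₂.1, mul_zero])
    have hgM : g ∈ M := step1 z p z₂ y₂ hy₂.1 g hg
    have h1 := SiegelIn.conj (step1 u w z' y₃ hwy₃) hgM
    rw [hm.siegel_apply hg, hm.siegel_apply hg] at h1
    simp only [ct2_vecMulVec, map_smul, hm.altf.isRefl _ _ huz, hm.alth.isRefl _ _ hy₂.2, hy₂₃, hz₂z] at h1
    simp only [smul_eq_mul, zero_mul, mul_zero, zero_smul, sub_zero, add_zero, one_mul, neg_smul, one_smul,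
      sub_neg_eq_add] at h1
    set X := vecMulVec z' y₃ + (h p y₃ * f z z') • vecMulVec z₂ y₂ with hX
    have hX0 : polar Q (vecMulVec u w) X = 0 := by
      rw [hX, polar_add_right, polar_smul_r', hm.pol, hm.pol, hwy₃, hy₂.2]; ring
    have h3 : SiegelIn M (vecMulVec u w) (-X) := by
      have e : -X = vecMulVec (-z') y₃ + vecMulVec ((-(h p y₃ * f z z')) • z₂) y₂ := by
        rw [hX, neg_vecMulVec, smul_vecMulVec, neg_smul, neg_add]
      rw [e]
      exact SiegelIn.add hm.nondeg (hm.pure u w) (by rw [hm.pol, hwy₃, mul_zero]) (by rw [hm.pol, hy₂.2, mul_zero])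
        (step1 u w _ y₃ hwy₃) (step1 u w _ y₂ hy₂.2)
    have h4 := SiegelIn.add hm.nondeg (hm.pure u w)
      (by rw [polar_add_right, hX0, hm.pol, huz, zero_mul, add_zero])
      (by rw [show -X = (-1 : F) • X from (neg_one_smul F X).symm, polar_smul_r', hX0, mul_zero]) h1 h3
    rwa [add_comm X, add_neg_cancel_right] at h4
  intro X g hg
  rcases eq_or_ne w 0 with rfl | hw
  · rw [TensorMax.vecMulVec_zero'] at hg
    exact AxIn.zero M _ g hg
  obtain ⟨p, hp⟩ := alt_exists_partner hm.ndh.1 hw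
  have hperp : f u (ct2 a h w X) = 0 := by rw [← hm.pol_left]; exact hg.2.1
  have hdec : X = ∑ i, vecMulVec (Pi.single i 1) (X i - h w (X i) • p) + vecMulVec (ct2 a h w X) p := by
    refine Matrix.ext fun i j => ?_
    simp [Matrix.sum_apply, Matrix.add_apply, vecMulVec_apply, Pi.single_apply, ct2_apply]
  have hsum : ∀ s : Finset (Fin a),
      polar Q (vecMulVec u w) (∑ i ∈ s, vecMulVec (Pi.single i 1) (X i - h w (X i) • p)) = 0 ∧
        SiegelIn M (vecMulVec u w) (∑ i ∈ s, vecMulVec (Pi.single i 1) (X i - h w (X i) • p)) := by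
    intro s
    induction s using Finset.induction_on with
    | empty =>
      refine ⟨by rw [Finset.sum_empty, polar_zero_right], fun g hg => ?_⟩
      rw [Finset.sum_empty] at hg
      rw [hg.unique (isSiegel_one (hm.pure u w))]
      exact M.one_mem
    | insert i s his ih =>
      have hi : h w (X i - h w (X i) • p) = 0 := by rw [map_sub, map_smul, hp, smul_eq_mul, mul_one, sub_self]
      rw [Finset.sum_insert his]
      exact ⟨by rw [polar_add_right, hm.pol, hi, mul_zero, ih.1, add_zero],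
        SiegelIn.add hm.nondeg (hm.pure u w) (by rw [hm.pol, hi, mul_zero]) ih.1 (step1 u w _ _ hi) ih.2⟩
  have h5 := SiegelIn.add hm.nondeg (hm.pure u w) (hsum Finset.univ).1 (by rw [hm.pol, hperp, zero_mul])
    (hsum Finset.univ).2 (step2 _ p hperp)
  rw [← hdec] at h5
  exact h5 g hg

/-- A Siegel element with pure parameters generates `Ω`. -/
theorem omega_le (hb : 5 ≤ b) (ha : 0 < a) (hn : 5 ≤ finrank F (Matrix (Fin a) (Fin b) F))
    (hs : Start₁ M h ∨ Start₂ M f) : commutator (orthGroup Q) ≤ M := by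
  classical
  have hax := hm.ax_pure hMc hMr hb (hm.start_first hMc hMr (by omega) hs)
  obtain ⟨hp⟩ := exists_hypPairs hm.nondeg hn
  rw [commutator_eq_siegelGroup hm.nondeg (good_of (Or.inr (by omega))) hp hn]
  refine siegelGroup_le_of_ax fun y hy => ?_
  rcases eq_or_ne y 0 with rfl | hy0
  · exact AxIn.zero M
  obtain ⟨i, hi⟩ : ∃ i, y i ≠ 0 := Function.ne_iff.1 hy0
  obtain ⟨w, hw⟩ : ∃ w, h w (y i) ≠ 0 := by
    by_contra! hall
    exact hi (hm.ndh.2 _ hall)
  obtain ⟨u, hu⟩ : ∃ u, f u (ct2 a h w y) ≠ 0 := by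
    by_contra! hall
    exact hw (congrFun (hm.ndf.2 _ hall) i)
  have hu0 : u ≠ 0 := fun e => hu (by rw [e, map_zero, LinearMap.zero_apply])
  have hw0 : w ≠ 0 := fun e => hw (by rw [e, map_zero, LinearMap.zero_apply])
  obtain ⟨n, hn'⟩ := alt_exists_partner hm.ndf.1 hu0
  obtain ⟨p, hp'⟩ := alt_exists_partner hm.ndh.1 hw0
  exact ax_move hm.nondeg (hax u w) (hm.pure u w) (hm.pure n p) hy
    (by rw [hm.pol, hn', hp', mul_one]; exact one_ne_zero) (by rwa [hm.pol_left]) (hax n p)

end Model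

end CfsgLib.Classical.TensorMaxS
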