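import Cfsg.Agent.Lib.Classical.TensorMaxS.Twist
import Cfsg.Agent.Lib.Classical.TensorMaxS.Axes
import Cfsg.Agent.Lib.Classical.TensorNonMax
import Cfsg.Agent.Lib.Classical.OrthMaxPair

/-!
# The stabiliser of a tensor product of two symplectic forms is maximal in `Ω`
-/

set_option autoImplicit false
set_option linter.unusedSectionVars false
set_option backward.isDefEq.respectTransparency false

namespace CfsgLib.Classical.TensorMaxS

open Matrix Module QuadraticMap CfsgLib.Orth CfsgLib.Classical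
open CfsgLib.Classical.TensorMax (IsTensor coords)

variable {F : Type*} [Field F] [Fintype F]

section Model

variable {a b : ℕ} {Q : QuadraticForm F (Matrix (Fin a) (Fin b) F)}
  {f : (Fin a → F) →ₗ[F] (Fin a → F) →ₗ[F] F} {h : (Fin b → F) →ₗ[F] (Fin b → F) →ₗ[F] F}

/-- An overgroup of the tensor maps of `Ω` with a further element contains `Ω`. -/
theorem Model.omega_le_of_not_tensor (hm : Model Q f h) (hn : 5 ≤ finrank F (Matrix (Fin a) (Fin b) F))
    (ha : 0 < a) (hab : a + 1 < b) (hb : 5 ≤ b) (hex : (∃ μ : F, μ ≠ 0 ∧ μ ≠ 1) ∨ 4 ≤ a)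
    {M : Subgroup (orthGroup Q)} (hM : ContainsTensor M) {g : orthGroup Q} (hg : g ∈ M) (hgT : ¬ IsTensor g.1) :
    commutator (orthGroup Q) ≤ M := by
  have hMc : ∀ A : isomGroup f, hm.col A ∈ M := fun A => hM _ (hm.col_mem hn A) (hm.col_tensor A)
  have hMr : ∀ C : isomGroup h, hm.row C ∈ M := fun C => hM _ (hm.row_mem hn C) (hm.row_tensor C)
  obtain ⟨g', hg', hgT', b₀, c, hb0, hs⟩ := hm.good_full hM hn ha hab hg hgT
  exact hm.omega_le hMc hMr hb ha hn (hm.start_of_slice hMc hMr hb hex ha hg' hgT' hb0 hs)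

/-- Some element of `Ω` is not a tensor map. -/
theorem Model.exists_not_tensor (hm : Model Q f h) (hn : 5 ≤ finrank F (Matrix (Fin a) (Fin b) F))
    (ha : 0 < a) (hb : 3 ≤ b) : ∃ g ∈ commutator (orthGroup Q), ¬ IsTensor g.1 := by
  set u : Fin a → F := Pi.single ⟨0, ha⟩ 1 with hudef
  have hu : u ≠ 0 := by simp [hudef]
  obtain ⟨n, hun⟩ := alt_exists_partner hm.ndf.1 hu
  set w : Fin b → F := Pi.single ⟨0, by omega⟩ 1 with hwdef
  have hw : w ≠ 0 := by simp [hwdef]
  obtain ⟨p₀, hwp₀⟩ := alt_exists_partner hm.ndh.1 hw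
  obtain ⟨w', hw'0, hw'⟩ := TensorMax.exists_perp ((h w).prod (h p₀)) (by rw [finrank_prod, finrank_self]; omega)
  simp only [LinearMap.prod_apply, Function.prod, Prod.mk_eq_zero] at hw'
  have hp'n : w' ∉ F ∙ w := fun hmem => by
    obtain ⟨t, ht⟩ := Submodule.mem_span_singleton.1 hmem
    have e := hw'.2
    rw [← ht, map_smul, hm.hswap w p₀, hwp₀, smul_eq_mul, mul_neg, mul_one, neg_eq_zero] at e
    exact hw'0 (by rw [← ht, e, zero_smul])
  obtain ⟨p, hwp, hw'p⟩ := exists_dual2 hm.alth hm.ndh (indep_swap hw hp'n)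
  obtain ⟨g, hg⟩ := hm.exists_pure_siegel (u := u) (u' := u) (w := w) (w' := w') (by rw [hm.altf u, zero_mul])
  refine ⟨g, hm.siegel_mem hn hg, fun hT => ?_⟩
  obtain ⟨A, C, -, -, hAC⟩ := TensorMaxU.tensor_pure hT
  have e := hAC n p
  rw [hm.siegel_apply hg, ct2_vecMulVec, ct2_vecMulVec, hwp, hw'p, one_smul, zero_smul, map_zero, zero_smul,
    sub_zero, hun, one_smul] at e
  have hpw' : p ∉ F ∙ w' := fun hmem => by
    obtain ⟨t, ht⟩ := Submodule.mem_span_singleton.1 hmem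
    rw [← ht, map_smul, hw'.1, smul_zero] at hwp
    exact zero_ne_one hwp
  have hw'0p : w' ∉ F ∙ p := indep_swap hw'0 hpw'
  obtain ⟨y, hy1, hy2⟩ := exists_dual2 hm.alth hm.ndh hw'0p
  have e1 := congrArg (ct2 a h w) e
  rw [map_add, ct2_vecMulVec, ct2_vecMulVec, ct2_vecMulVec, hwp, hw'.1, one_smul, zero_smul, add_zero] at e1
  have e2 := congrArg (ct2 a h y) e
  rw [map_add, ct2_vecMulVec, ct2_vecMulVec, ct2_vecMulVec, hm.hswap p y, hy2, hm.hswap w' y, hy1, neg_zero,
    zero_smul, zero_add, neg_one_smul] at e2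
  have e3 : f u n = f ((-h y (C p)) • A n) (h w (C p) • A n) := by
    rw [← e1, show (-h y (C p)) • A n = u by rw [neg_smul, ← e2, neg_neg]]
  rw [hun, map_smul, map_smul, LinearMap.smul_apply, hm.altf (A n)] at e3
  simp at e3

end Model

variable {n n₁ n₂ : ℕ} {e : Fin n ≃ Fin n₁ × Fin n₂} {P : GL (Fin n) F}
  {f₁ : (Fin n₁ → F) → (Fin n₁ → F) → F} {f₂ : (Fin n₂ → F) → (Fin n₂ → F) → F}

/-- A symplectic form, times a scalar, as a bilinear map. -/
def biForm {k : ℕ} (c : F) {g : (Fin k → F) → (Fin k → F) → F} (hg : Cfsg.Geo.IsSymplecticForm g) :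
    (Fin k → F) →ₗ[F] (Fin k → F) →ₗ[F] F :=
  LinearMap.mk₂ F (fun x y => c * g x y)
    (fun x y v => by rw [hg.bilinear.add_left, mul_add])
    (fun t x v => by rw [hg.bilinear.smul_left, smul_eq_mul]; ring)
    (fun v x y => by rw [hg.bilinear.add_right, mul_add])
    (fun t v x => by rw [hg.bilinear.smul_right, smul_eq_mul]; ring)

theorem biForm_apply {k : ℕ} (c : F) {g : (Fin k → F) → (Fin k → F) → F} (hg : Cfsg.Geo.IsSymplecticForm g)
    (x y : Fin k → F) : biForm c hg x y = c * g x y := rfl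

theorem biForm_alt {k : ℕ} (c : F) {g : (Fin k → F) → (Fin k → F) → F} (hg : Cfsg.Geo.IsSymplecticForm g) :
    (biForm c hg).IsAlt := fun x => by rw [biForm_apply, hg.alternating, mul_zero]

theorem biForm_nondeg {k : ℕ} {c : F} (hc : c ≠ 0) {g : (Fin k → F) → (Fin k → F) → F}
    (hg : Cfsg.Geo.IsSymplecticForm g) : (biForm c hg).Nondegenerate := by
  refine ⟨fun x hx => ?_, fun x hx => ?_⟩ <;> by_contra hne
  · obtain ⟨-, y, hy⟩ := hg.nondegenerate x hne
    exact hy ((mul_eq_zero.1 (hx y)).resolve_left hc)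
  · obtain ⟨⟨y, hy⟩, -⟩ := hg.nondegenerate x hne
    exact hy ((mul_eq_zero.1 (hx y)).resolve_left hc)

theorem even_dim {k : ℕ} {g : (Fin k → F) →ₗ[F] (Fin k → F) →ₗ[F] F} (hA : g.IsAlt) (hN : g.Nondegenerate) :
    Even k := by
  obtain ⟨m, e, -⟩ := exists_sympBasis hA hN
  have h1 := Module.finrank_eq_card_basis e
  rw [finrank_fin_fun, Fintype.card_sum, Fintype.card_fin] at h1
  exact ⟨m, h1⟩

/-- The stabiliser of the tensor decomposition is maximal in `Ω`. -/
theorem omega_isMaximal {Qf : (Fin n → F) → F} (hn : 9 ≤ n) (hQ : Cfsg.Geo.IsNondegenerateQuadraticForm Qf)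
    (h12 : n₁ < n₂) (hex : ¬ (Fintype.card F = 2 ∧ n₁ = 2))
    (hf₁ : Cfsg.Geo.IsSymplecticForm f₁) (hf₂ : Cfsg.Geo.IsSymplecticForm f₂)
    (hT : Cfsg.Geo.IsTensorFormStructure id (polar Qf) f₁ f₂ e P)
    (hpure : ∀ (x₁ : Fin n₁ → F) (x₂ : Fin n₂ → F),
      Qf (Matrix.mulVec (P : Matrix (Fin n) (Fin n) F) ((fun a : Fin n₁ × Fin n₂ => x₁ a.1 * x₂ a.2) ∘ e)) = 0) :
    Cfsg.Geo.IsMaximalIn (Cfsg.Geo.omegaGL Qf)
      (Cfsg.Geo.tensorProductSubgroup n₁ n₂ e P ⊓ Cfsg.Geo.omegaGL Qf) := by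
  classical
  obtain ⟨Q, hQf, -⟩ := exists_quadOf hQ
  obtain ⟨c, hc, hf⟩ := TensorNonMax.tmap_form e P (σ := id) (fun _ _ => rfl) hT
  set Φ := coords e P with hΦ
  set Q' : QuadraticForm F (Matrix (Fin n₁) (Fin n₂) F) := Q.comp Φ.toLinearMap with hQ'
  have hQ'v : ∀ X, Q (Φ X) = Q' X := fun X => rfl
  have gr : ∀ {k : ℕ} {g : (Fin k → F) → (Fin k → F) → F} (hg : Cfsg.Geo.IsSymplecticForm g) (x y : Fin k → F),
      Cfsg.Geo.formOfGram id (Cfsg.Geo.gramMatrix g) x y = g x y := fun {k g} hg x y =>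
    TensorNonMax.gram_expand hg.bilinear.add_left hg.bilinear.smul_left hg.bilinear.add_right
      (fun t v x => hg.bilinear.smul_right t v x) x y
  have hm : Model Q' (biForm c hf₁) (biForm 1 hf₂) :=
    { altf := biForm_alt c hf₁
      alth := biForm_alt 1 hf₂
      ndf := biForm_nondeg hc hf₁
      ndh := biForm_nondeg one_ne_zero hf₂
      pure := fun u w => (hQf _).symm.trans (hpure u w)
      pol := fun u u' w w' => by
        have e1 : polar Q' (vecMulVec u w) (vecMulVec u' w') =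
            polar Qf (TensorNonMax.tmap e P u w) (TensorNonMax.tmap e P u' w') := by
          simp only [QuadraticMap.polar, hQf]
          show Q' _ - Q' _ - Q' _ = _
          rw [← hQ'v, map_add]
          rfl
        rw [e1, hf, gr hf₁, gr hf₂, biForm_apply, biForm_apply, one_mul]
        ring }
  have hcard : n = n₁ * n₂ := by simpa using Fintype.card_congr e
  have ha : 0 < n₁ := Nat.pos_of_ne_zero fun h0 => by simp [h0] at hcard; omega
  obtain ⟨i₁, hi₁⟩ := even_dim hm.altf hm.ndf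
  obtain ⟨i₂, hi₂⟩ := even_dim hm.alth hm.ndh
  have hb : 5 ≤ n₂ := by
    by_contra hlt
    have := Nat.mul_le_mul (show n₁ ≤ 2 by omega) (show n₂ ≤ 4 by omega)
    omega
  have hn' : 5 ≤ finrank F (Matrix (Fin n₁) (Fin n₂) F) := by
    rw [Φ.finrank_eq, finrank_fin_fun]; omega
  have hex' : (∃ μ : F, μ ≠ 0 ∧ μ ≠ 1) ∨ 4 ≤ n₁ := by
    refine or_iff_not_imp_left.2 fun hμ => ?_
    push Not at hμ
    by_contra h4
    have hsub : (Finset.univ : Finset F) ⊆ {0, 1} := fun x _ => by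
      by_cases hx : x = 0
      · simp [hx]
      · simp [hμ x hx]
    have h2 := Finset.card_le_card hsub
    rw [Finset.card_univ, Finset.card_pair zero_ne_one] at h2
    exact hex ⟨le_antisymm h2 Fintype.one_lt_card, by omega⟩
  set D : orthGroup Q' ≃* orthGroup Q := orthGroupCongr Φ hQ'v with hD
  have hmem : ∀ g, orthToGL Q hQf (D g) ∈ Cfsg.Geo.tensorProductSubgroup n₁ n₂ e P ↔ IsTensor g.1 := by
    intro g
    have hv : ∀ X, (orthToGL Q hQf (D g) : Matrix (Fin n) (Fin n) F) *ᵥ Φ X = Φ (g.1 X) := fun X => by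
      rw [← Matrix.toLin'_apply, toLin'_orthToGL]
      show Φ (g.1 (Φ.symm (Φ X))) = _
      rw [Φ.symm_apply_apply]
    constructor
    · intro hmem
      obtain ⟨A, C, hAC⟩ := TensorNonMax.tmap_mul e P hmem
      exact TensorMax.isTensor_of_forall ha (by omega) _ fun w _ =>
        ⟨(C : Matrix _ _ F) *ᵥ w, fun u => ⟨(A : Matrix _ _ F) *ᵥ u, Φ.injective (by
          rw [← hv]
          exact hAC u w)⟩⟩
    · intro hT'
      rw [TensorMax.gl_ext_coords e P (G := orthToGL Q hQf (D g)) (G' := TensorMax.toGLHom e P g.1) fun X => by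
        rw [TensorMax.toGLHom_mulVec]; exact hv X]
      exact TensorMax.toGLHom_mem_of_isTensor e P hT'
  have hcomm : ∀ g, D g ∈ commutator (orthGroup Q) ↔ g ∈ commutator (orthGroup Q') := fun g => by
    have e1 : (commutator (orthGroup Q')).map D.toMonoidHom = commutator (orthGroup Q) := by
      rw [commutator_def, Subgroup.map_commutator, Subgroup.map_top_of_surjective _ D.surjective, commutator_def]
    rw [← e1]
    exact Subgroup.mem_map_equiv.trans (by rw [D.symm_apply_apply])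
  refine omega_isMaximalIn_inf Q hQf _ ?_ fun M hM g hgM _ hgN => ?_
  · obtain ⟨g, hg, hgT⟩ := hm.exists_not_tensor hn' ha (by omega)
    exact ⟨D g, (hcomm g).2 hg, fun hN => hgT ((hmem g).1 hN)⟩
  · obtain ⟨g', rfl⟩ := D.surjective g
    have hle := hm.omega_le_of_not_tensor hn' ha (by omega) hb hex' (M := M.comap D.toMonoidHom)
      (fun k hk hkT => hM _ ((hcomm k).2 hk) ((hmem k).2 hkT)) (g := g') hgM fun hT' => hgN ((hmem g').2 hT')
    intro k hk
    obtain ⟨k', rfl⟩ := D.surjective k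
    exact hle ((hcomm k').1 hk)

end CfsgLib.Classical.TensorMaxS
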