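import Cfsg.Agent.Lib.Classical.TensorMaxS.Basic

/-!
# Elements of the radical of a slice

`El c r T S` says that `M` has the element `X ↦ X + (T p + S q) ⊗ c + T† q ⊗ r`, with `p = ct2 r X`, `q = ct2 c X`.
-/

set_option autoImplicit false
set_option linter.unusedSectionVars false

namespace CfsgLib.Classical.TensorMaxS

open Matrix Module QuadraticMap CfsgLib.Orth CfsgLib.Classical
open CfsgLib.Classical.TensorMax (IsTensor)

variable {F : Type*} [Field F]

section Alt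

variable {n : ℕ} {f : (Fin n → F) →ₗ[F] (Fin n → F) →ₗ[F] F}

/-- The adjoint for a non-degenerate form. -/
noncomputable def adj (hf : f.Nondegenerate) (T : (Fin n → F) →ₗ[F] (Fin n → F)) : (Fin n → F) →ₗ[F] (Fin n → F) :=
  (LinearMap.BilinForm.toDual f hf).symm.toLinearMap ∘ₗ T.dualMap ∘ₗ (LinearMap.BilinForm.toDual f hf).toLinearMap

theorem adj_left (hf : f.Nondegenerate) (T : (Fin n → F) →ₗ[F] (Fin n → F)) (y u : Fin n → F) :
    f (adj hf T y) u = f y (T u) := by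
  rw [show f (adj hf T y) u = LinearMap.BilinForm.toDual f hf (adj hf T y) u from rfl]
  simp [adj, LinearMap.BilinForm.toDual_def]

theorem adj_right (hA : f.IsAlt) (hf : f.Nondegenerate) (T : (Fin n → F) →ₗ[F] (Fin n → F)) (u y : Fin n → F) :
    f u (adj hf T y) = f (T u) y := by
  rw [alt_swap hA u, adj_left, alt_swap hA y, neg_neg]

theorem eq_of_forall (hf : f.Nondegenerate) {x y : Fin n → F} (e : ∀ u, f u x = f u y) : x = y :=
  sub_eq_zero.1 (hf.2 _ fun u => by rw [map_sub, e u, sub_self])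

theorem adj_eq (hA : f.IsAlt) (hf : f.Nondegenerate) {T T' : (Fin n → F) →ₗ[F] (Fin n → F)}
    (e : ∀ u y, f (T u) y = f u (T' y)) : adj hf T = T' :=
  LinearMap.ext fun y => eq_of_forall hf fun u => by rw [adj_right hA, e]

/-- A vector with given pairings against two independent ones. -/
theorem exists_dual2 (hA : f.IsAlt) (hf : f.Nondegenerate) {c r : Fin n → F} (hcr : c ∉ F ∙ r) :
    ∃ y, f c y = 1 ∧ f r y = 0 := by
  obtain ⟨φ, hφc, hφr⟩ := Submodule.exists_dual_map_eq_bot_of_notMem hcr inferInstance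
  have hr : φ r = 0 := by
    have := Submodule.mem_map_of_mem (f := φ) (Submodule.mem_span_singleton_self r : r ∈ F ∙ r)
    rwa [hφr, Submodule.mem_bot] at this
  obtain ⟨y, hy⟩ := (LinearMap.BilinForm.toDual f hf).surjective (-((φ c)⁻¹ • φ))
  have e : ∀ x, f x y = (φ c)⁻¹ * φ x := fun x => by
    have h1 : f y x = -((φ c)⁻¹ * φ x) := by
      rw [show f y x = LinearMap.BilinForm.toDual f hf y x from rfl, hy]
      simp
    rw [alt_swap hA x, h1, neg_neg]
  exact ⟨y, by rw [e, inv_mul_cancel₀ hφc], by rw [e, hr, mul_zero]⟩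

theorem indep_swap {c r : Fin n → F} (hc : c ≠ 0) (hr : r ∉ F ∙ c) : c ∉ F ∙ r := fun hm => by
  obtain ⟨t, ht⟩ := Submodule.mem_span_singleton.1 hm
  have ht0 : t ≠ 0 := fun e => hc (by rw [← ht, e, zero_smul])
  exact hr (Submodule.mem_span_singleton.2 ⟨t⁻¹, by rw [← ht, inv_smul_smul₀ ht0]⟩)

theorem indep_pair {c r : Fin n → F} (hc : c ≠ 0) (hr : r ∉ F ∙ c) : LinearIndependent F ![c, r] :=
  (LinearIndependent.pair_iff' hc).2 fun t ht => hr (Submodule.mem_span_singleton.2 ⟨t, ht⟩)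

/-- Move one orthogonal pair to another. -/
theorem exists_isom_pair (hA : f.IsAlt) (hf : f.Nondegenerate) {c r c' r' : Fin n → F} (hc : c ≠ 0) (hr : r ∉ F ∙ c)
    (hcr : f c r = 0) (hc' : c' ≠ 0) (hr' : r' ∉ F ∙ c') (hcr' : f c' r' = 0) :
    ∃ C : isomGroup f, C.1 c = c' ∧ C.1 r = r' := by
  obtain ⟨C, hC⟩ := witt_family hA hf (indep_pair hc hr) (indep_pair hc' hr')
    (fun i j => by fin_cases i <;> fin_cases j <;> simp [hA c, hA r, hcr, hA.isRefl _ _ hcr])
    (fun i j => by fin_cases i <;> fin_cases j <;> simp [hA c', hA r', hcr', hA.isRefl _ _ hcr'])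
  exact ⟨C, hC 0, hC 1⟩

theorem exists_noneigen {S : (Fin n → F) →ₗ[F] (Fin n → F)} (hns : ¬ ∃ s : F, ∀ v, S v = s • v) :
    ∃ v, S v ∉ F ∙ v := by
  by_contra! hall
  obtain ⟨s, hs⟩ := S.exists_eq_smul_id_of_forall_notLinearIndependent (fun v hli => by
    obtain ⟨t, ht⟩ := Submodule.mem_span_singleton.1 (hall v)
    exact (LinearIndependent.pair_iff' (by simpa using hli.ne_zero 0)).1 hli t ht)
  exact hns ⟨s, fun v => by rw [hs]; rfl⟩

theorem exists_eigen_on (W : Submodule F (Fin n → F)) {S : (Fin n → F) →ₗ[F] (Fin n → F)}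
    (hall : ∀ x ∈ W, S x ∈ F ∙ x) : ∃ s : F, ∀ x ∈ W, S x = s • x := by
  let g : W →ₗ[F] W := (S ∘ₗ W.subtype).codRestrict W fun x => by
    obtain ⟨t, ht⟩ := Submodule.mem_span_singleton.1 (hall x.1 x.2)
    rw [LinearMap.comp_apply, Submodule.subtype_apply, ← ht]
    exact W.smul_mem _ x.2
  obtain ⟨s, hs⟩ := g.exists_eq_smul_id_of_forall_notLinearIndependent (fun x hli => by
    obtain ⟨t, ht⟩ := Submodule.mem_span_singleton.1 (hall x.1 x.2)
    have hx : x ≠ 0 := by simpa using hli.ne_zero 0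
    exact (LinearIndependent.pair_iff' hx).1 hli t (Subtype.ext ht))
  exact ⟨s, fun x hx => congrArg Subtype.val (LinearMap.congr_fun hs ⟨x, hx⟩)⟩

theorem self_adjoint_of_alt (hA : f.IsAlt) {S : (Fin n → F) →ₗ[F] (Fin n → F)} (hS : ∀ u, f u (S u) = 0)
    (u v : Fin n → F) : f (S u) v = f u (S v) := by
  have e := hS (u + v)
  simp only [map_add, LinearMap.add_apply, hS, zero_add, add_zero] at e
  rw [alt_swap hA (S u) v]
  linear_combination -e

end Alt

variable {a b : ℕ} {Q : QuadraticForm F (Matrix (Fin a) (Fin b) F)} {f : (Fin a → F) →ₗ[F] (Fin a → F) →ₗ[F] F}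
  {h : (Fin b → F) →ₗ[F] (Fin b → F) →ₗ[F] F} {M : Subgroup (orthGroup Q)}

/-- One orientation of the element to find. -/
def Start₁ (M : Subgroup (orthGroup Q)) (h : (Fin b → F) →ₗ[F] (Fin b → F) →ₗ[F] F) : Prop :=
  ∃ (u : Fin a → F) (w w' : Fin b → F), u ≠ 0 ∧ w ≠ 0 ∧ w' ∉ F ∙ w ∧ h w w' = 0 ∧
    ∀ g, IsSiegel g (vecMulVec u w) (vecMulVec u w') → g ∈ M

/-- The other orientation. -/
def Start₂ (M : Subgroup (orthGroup Q)) (f : (Fin a → F) →ₗ[F] (Fin a → F) →ₗ[F] F) : Prop :=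
  ∃ (u u' : Fin a → F) (w : Fin b → F), u ≠ 0 ∧ u' ∉ F ∙ u ∧ w ≠ 0 ∧ f u u' = 0 ∧
    ∀ g, IsSiegel g (vecMulVec u w) (vecMulVec u' w) → g ∈ M

namespace Model

variable (hm : Model Q f h)
include hm

/-- An element of the radical of the slice at `c`. -/
def El (M : Subgroup (orthGroup Q)) (c r : Fin b → F) (T S : (Fin a → F) →ₗ[F] (Fin a → F)) : Prop :=
  ∃ z ∈ M, ∀ X, z.1 X = X + vecMulVec (T (ct2 a h r X) + S (ct2 a h c X)) c +
    vecMulVec (adj hm.ndf T (ct2 a h c X)) r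

variable {c r : Fin b → F} {T T₁ S S₁ : (Fin a → F) →ₗ[F] (Fin a → F)}

theorem adj_add (T T₁ : (Fin a → F) →ₗ[F] (Fin a → F)) : adj hm.ndf (T + T₁) = adj hm.ndf T + adj hm.ndf T₁ :=
  adj_eq hm.altf hm.ndf fun u y => by simp [adj_right hm.altf]

theorem adj_smul (t : F) (T : (Fin a → F) →ₗ[F] (Fin a → F)) : adj hm.ndf (t • T) = t • adj hm.ndf T :=
  adj_eq hm.altf hm.ndf fun u y => by simp [adj_right hm.altf]

theorem El.add (hcr : h c r = 0) (e : hm.El M c r T S) (e₁ : hm.El M c r T₁ S₁) :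
    hm.El M c r (T + T₁) (S + S₁) := by
  obtain ⟨z, hz, hX⟩ := e
  obtain ⟨z₁, hz₁, hX₁⟩ := e₁
  refine ⟨z * z₁, M.mul_mem hz hz₁, fun X => ?_⟩
  have hrc : h r c = 0 := hm.alth.isRefl _ _ hcr
  rw [mul_apply', hX, hX₁, hm.adj_add]
  simp only [map_add, ct2_vecMulVec, hm.alth c, hm.alth r, hcr, hrc, zero_smul, add_zero, LinearMap.add_apply,
    add_vecMulVec]
  abel

theorem El.neg (hcr : h c r = 0) (e : hm.El M c r T S) : hm.El M c r (-T) (-S) := by
  obtain ⟨z, hz, hX⟩ := e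
  refine ⟨z⁻¹, M.inv_mem hz, fun X => z.1.injective ?_⟩
  have hrc : h r c = 0 := hm.alth.isRefl _ _ hcr
  rw [show z.1 ((z⁻¹).1 X) = X from Orth.inv_apply z X, hX]
  have : adj hm.ndf (-T) = -adj hm.ndf T := adj_eq hm.altf hm.ndf fun u y => by
    simp [adj_right hm.altf]
  simp only [map_add, map_neg, map_zero, neg_zero, ct2_vecMulVec, hm.alth c, hm.alth r, hcr, hrc, zero_smul, add_zero, this, LinearMap.neg_apply,
    add_vecMulVec, neg_vecMulVec]
  abel

theorem El.sub (hcr : h c r = 0) (e : hm.El M c r T S) (e₁ : hm.El M c r T₁ S₁) :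
    hm.El M c r (T - T₁) (S - S₁) := by
  rw [sub_eq_add_neg, sub_eq_add_neg]
  exact e.add hm hcr (e₁.neg hm hcr)

/-- The parameters are alternating. -/
theorem El.alt (hr0 : r ≠ 0) (hrc : r ∉ F ∙ c) (hc : c ≠ 0) (hcr : h c r = 0) (e : hm.El M c r T S)
    (u : Fin a → F) : f u (S u) = 0 := by
  obtain ⟨z, -, hX⟩ := e
  obtain ⟨y, hcy, hry⟩ := exists_dual2 hm.alth hm.ndh (indep_swap hc hrc)
  have e := apply_quad z (vecMulVec u y)
  rw [hX, quad_add', quad_add', hm.pure, hm.pure, hm.pure] at e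
  simp only [ct2_vecMulVec, hcy, hry, zero_smul, one_smul, map_zero, zero_add] at e
  rw [show polar Q (vecMulVec u y + vecMulVec (S u) c) (vecMulVec (adj hm.ndf T u) r) =
    polarBilin Q (vecMulVec u y + vecMulVec (S u) c) (vecMulVec (adj hm.ndf T u) r) from rfl, map_add,
    LinearMap.add_apply, polarBilin_apply_apply, polarBilin_apply_apply, hm.pol, hm.pol, hm.pol, hcr,
    hm.hswap r y, hry, hm.hswap c y, hcy] at e
  linear_combination -e

/-- Conjugation by the first factor. -/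
theorem El.col (hM : ∀ A : isomGroup f, hm.col A ∈ M) (e : hm.El M c r T S) (A : isomGroup f) :
    hm.El M c r (A.1.toLinearMap ∘ₗ T ∘ₗ (A⁻¹).1.toLinearMap) (A.1.toLinearMap ∘ₗ S ∘ₗ (A⁻¹).1.toLinearMap) := by
  obtain ⟨z, hz, hX⟩ := e
  refine ⟨hm.col A * z * hm.col A⁻¹, M.mul_mem (M.mul_mem (hM A) hz) (hM _), fun X => ?_⟩
  have ha : adj hm.ndf (A.1.toLinearMap ∘ₗ T ∘ₗ (A⁻¹).1.toLinearMap) =
      A.1.toLinearMap ∘ₗ adj hm.ndf T ∘ₗ (A⁻¹).1.toLinearMap := adj_eq hm.altf hm.ndf fun u y => by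
    simp only [LinearMap.comp_apply, LinearEquiv.coe_coe]
    conv_lhs => rw [show y = A.1 ((A⁻¹).1 y) from (A.1.apply_symm_apply y).symm, mem_isomGroup.1 A.2]
    conv_rhs => rw [show u = A.1 ((A⁻¹).1 u) from (A.1.apply_symm_apply u).symm, mem_isomGroup.1 A.2,
      adj_right hm.altf]
  have eX : (hm.col A).1 ((hm.col A⁻¹).1 X) = X := by
    rw [← mul_apply', ← map_mul, mul_inv_cancel, map_one]; rfl
  rw [mul_apply', mul_apply', hX, map_add, map_add, eX, hm.col_pure, hm.col_pure, hm.ct2_col, hm.ct2_col, ha]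
  simp only [map_add, LinearMap.comp_apply, LinearEquiv.coe_coe]

/-- Conjugation by the second factor. -/
theorem El.row (hM : ∀ C : isomGroup h, hm.row C ∈ M) (e : hm.El M c r T S) (C : isomGroup h) :
    ∃ z ∈ M, ∀ X, z.1 X = X + vecMulVec (T (ct2 a h (C.1 r) X) + S (ct2 a h (C.1 c) X)) (C.1 c) +
      vecMulVec (adj hm.ndf T (ct2 a h (C.1 c) X)) (C.1 r) := by
  obtain ⟨z, hz, hX⟩ := e
  refine ⟨hm.row C * z * hm.row C⁻¹, M.mul_mem (M.mul_mem (hM C) hz) (hM _), fun X => ?_⟩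
  have eX : (hm.row C).1 ((hm.row C⁻¹).1 X) = X := by
    rw [← mul_apply', ← map_mul, mul_inv_cancel, map_one]; rfl
  have e1 : ∀ w, ct2 a h w ((hm.row C⁻¹).1 X) = ct2 a h (C.1 w) X := fun w => by
    conv_rhs => rw [← eX, hm.ct2_row]
  rw [mul_apply', mul_apply', hX, map_add, map_add, eX, hm.row_pure, hm.row_pure, e1, e1]

theorem El.scale (hM : ∀ C : isomGroup h, hm.row C ∈ M) (hc : c ≠ 0) (hr : r ∉ F ∙ c) (hcr : h c r = 0)
    (e : hm.El M c r T S) {l : F} (hl : l ≠ 0) : hm.El M c r (l • T) ((l * l) • S) := by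
  obtain ⟨C, hCc, hCr⟩ := exists_isom_pair hm.alth hm.ndh hc hr hcr (c' := l • c) (r' := r) (smul_ne_zero hl hc)
    (by rwa [Submodule.span_singleton_smul_eq (IsUnit.mk0 l hl)])
    (by rw [map_smul, LinearMap.smul_apply, hcr, smul_zero])
  obtain ⟨z, hz, hX⟩ := e.row hm hM C
  refine ⟨z, hz, fun X => ?_⟩
  rw [hX, hCc, hCr, hm.adj_smul]
  simp only [map_smul, LinearMap.smul_apply, vecMulVec_smul, add_vecMulVec, smul_vecMulVec, smul_add, smul_smul]

theorem El.shear (hM : ∀ C : isomGroup h, hm.row C ∈ M) (hc : c ≠ 0) (hr : r ∉ F ∙ c) (hcr : h c r = 0)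
    (e : hm.El M c r T S) : hm.El M c r 0 (T + adj hm.ndf T) := by
  obtain ⟨C, hCc, hCr⟩ := exists_isom_pair hm.alth hm.ndh hc hr hcr (c' := c) (r' := r + c) hc
    (fun hm' => hr ((Submodule.add_mem_iff_left _ (Submodule.mem_span_singleton_self c)).1 hm'))
    (by rw [map_add, hcr, hm.alth c, add_zero])
  have h1 : hm.El M c r T (S + T + adj hm.ndf T) := by
    obtain ⟨z, hz, hX⟩ := e.row hm hM C
    refine ⟨z, hz, fun X => ?_⟩
    rw [hX, hCc, hCr]
    simp only [map_add, LinearMap.add_apply, add_vecMulVec, vecMulVec_add]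
    abel
  have h2 := h1.sub hm hcr e
  rwa [sub_self, show S + T + adj hm.ndf T - S = T + adj hm.ndf T by abel] at h2

/-- The commutator with a transvection of the first factor. -/
theorem El.comm (hM : ∀ A : isomGroup f, hm.col A ∈ M) (hcr : h c r = 0) (e : hm.El M c r T S) (n : Fin a → F)
    (μ : F) {T' S' : (Fin a → F) →ₗ[F] (Fin a → F)}
    (hT : ∀ x, T' x = μ • (f n (T x) • n - f n x • T n) - (μ * μ * f n x * f n (T n)) • n)
    (hS : ∀ x, S' x = μ • (f n (S x) • n - f n x • S n) - (μ * μ * f n x * f n (S n)) • n) :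
    hm.El M c r T' S' := by
  set A := tv hm.altf n (-μ) with hA
  have hAi : A⁻¹ = tv hm.altf n μ := by rw [hA, tv_inv, neg_neg]
  have key : ∀ (R : (Fin a → F) →ₗ[F] (Fin a → F)) (x : Fin a → F),
      (A.1.toLinearMap ∘ₗ R ∘ₗ (A⁻¹).1.toLinearMap - R) x =
        μ • (f n (R x) • n - f n x • R n) - (μ * μ * f n x * f n (R n)) • n := fun R x => by
    rw [LinearMap.sub_apply, LinearMap.comp_apply, LinearMap.comp_apply, LinearEquiv.coe_coe, LinearEquiv.coe_coe,
      hAi, hA, tv_apply, tv_apply, hm.fswap n x, map_add, map_smul, hm.fswap n (_ + _), map_add, map_smul, smul_eq_mul]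
    module
  have e' := (e.col hm hM A).sub hm hcr e
  rwa [show A.1.toLinearMap ∘ₗ T ∘ₗ (A⁻¹).1.toLinearMap - T = T' from LinearMap.ext fun x => (key T x).trans (hT x).symm,
    show A.1.toLinearMap ∘ₗ S ∘ₗ (A⁻¹).1.toLinearMap - S = S' from LinearMap.ext fun x => (key S x).trans (hS x).symm]
    at e'

/-- A non-scalar element of the centre gives a Siegel element. -/
theorem start_of_centre (hM : ∀ A : isomGroup f, hm.col A ∈ M) (hc : c ≠ 0) (hr : r ∉ F ∙ c) (hcr : h c r = 0)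
    (e : hm.El M c r 0 S) {n : Fin a → F} (hn : S n ∉ F ∙ n) : Start₂ M f := by
  have hr0 : r ≠ 0 := fun e => hr (by rw [e]; exact zero_mem _)
  have halt := e.alt hm hr0 hr hc hcr
  have hn0 : n ≠ 0 := fun e => hn (by rw [e, map_zero]; exact zero_mem _)
  set S' : (Fin a → F) →ₗ[F] (Fin a → F) := (f (S n)).smulRight n - (f n).smulRight (S n)
  obtain ⟨z, hz, hX⟩ := e.comm hm hM hcr n 1 (T' := 0) (S' := S') (fun x => by simp) fun x => by
    show f (S n) x • n - f n x • S n = _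
    rw [self_adjoint_of_alt hm.altf halt n x, halt n]
    simp
  refine ⟨S n, n, c, fun e' => hn (by rw [e']; exact zero_mem _), indep_swap hn0 hn, hc,
    by rw [hm.fswap n, halt n, neg_zero], fun g hg => ?_⟩
  rwa [show g = z from Subtype.ext (LinearEquiv.ext fun X => by
    rw [hm.siegel_apply hg, hX, LinearMap.zero_apply, zero_add,
      show adj hm.ndf (0 : (Fin a → F) →ₗ[F] (Fin a → F)) = 0 from adj_eq hm.altf hm.ndf (by simp),
      LinearMap.zero_apply, zero_vecMulVec, add_zero]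
    show _ = X + vecMulVec (f (S n) (ct2 a h c X) • n - f n (ct2 a h c X) • S n) c
    rw [sub_vecMulVec, smul_vecMulVec, smul_vecMulVec]; abel)]

end Model

end CfsgLib.Classical.TensorMaxS
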