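import Cfsg.Agent.Lib.Classical.TensorMaxU.Climb
import Cfsg.Agent.Lib.Classical.OrthMaxTS

/-!
# Two symplectic factors of an orthogonal space
-/

set_option autoImplicit false
set_option linter.unusedSectionVars false

namespace CfsgLib.Classical.TensorMaxS

open Matrix Module QuadraticMap CfsgLib.Orth CfsgLib.Classical
open CfsgLib.Classical.TensorMax (IsTensor)
open CfsgLib.Classical.TensorMaxU (rowMap colMap rowMap_vecMulVec colMap_vecMulVec matrix_eq_sum isTensor_rowMap
  isTensor_colMap vecMulVec_row rowMap_row)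

variable {F : Type*} [Field F] {a b : ℕ}

/-- A quadratic form on matrices with singular pure tensors, whose polar form is a product of alternating forms. -/
structure Model (Q : QuadraticForm F (Matrix (Fin a) (Fin b) F)) (f : (Fin a → F) →ₗ[F] (Fin a → F) →ₗ[F] F)
    (h : (Fin b → F) →ₗ[F] (Fin b → F) →ₗ[F] F) : Prop where
  altf : f.IsAlt
  alth : h.IsAlt
  ndf : f.Nondegenerate
  ndh : h.Nondegenerate
  pure : ∀ u w, Q (vecMulVec u w) = 0
  pol : ∀ u u' w w', polar Q (vecMulVec u w) (vecMulVec u' w') = f u u' * h w w'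

/-- Pairing the rows with a vector. -/
def ct2 (a : ℕ) (h : (Fin b → F) →ₗ[F] (Fin b → F) →ₗ[F] F) :
    (Fin b → F) →ₗ[F] Matrix (Fin a) (Fin b) F →ₗ[F] (Fin a → F) :=
  LinearMap.mk₂ F (fun w X i => h w (X i))
    (fun w w' X => funext fun i => by simp)
    (fun c w X => funext fun i => by simp)
    (fun w X Y => funext fun i => map_add (h w) (X i) (Y i))
    (fun c w X => funext fun i => map_smul (h w) c (X i))

/-- Pairing the columns with a vector. -/
def ct1 (b : ℕ) (f : (Fin a → F) →ₗ[F] (Fin a → F) →ₗ[F] F) :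
    (Fin a → F) →ₗ[F] Matrix (Fin a) (Fin b) F →ₗ[F] (Fin b → F) :=
  LinearMap.mk₂ F (fun u X j => f u (Xᵀ j))
    (fun u u' X => funext fun i => by simp)
    (fun c u X => funext fun i => by simp)
    (fun u X Y => funext fun j => map_add (f u) (Xᵀ j) (Yᵀ j))
    (fun c u X => funext fun j => map_smul (f u) c (Xᵀ j))

variable {Q : QuadraticForm F (Matrix (Fin a) (Fin b) F)} {f : (Fin a → F) →ₗ[F] (Fin a → F) →ₗ[F] F}
  {h : (Fin b → F) →ₗ[F] (Fin b → F) →ₗ[F] F}

theorem ct2_apply (w : Fin b → F) (X : Matrix (Fin a) (Fin b) F) (i : Fin a) : ct2 a h w X i = h w (X i) := rfl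
theorem ct1_apply (u : Fin a → F) (X : Matrix (Fin a) (Fin b) F) (j : Fin b) : ct1 b f u X j = f u (Xᵀ j) := rfl

@[simp] theorem ct2_vecMulVec (w : Fin b → F) (u : Fin a → F) (w' : Fin b → F) :
    ct2 a h w (vecMulVec u w') = h w w' • u :=
  funext fun i => by rw [ct2_apply, vecMulVec_row, map_smul]; simp [mul_comm]

@[simp] theorem ct1_vecMulVec (u u' : Fin a → F) (w : Fin b → F) :
    ct1 b f u (vecMulVec u' w) = f u u' • w := funext fun j => by
  rw [ct1_apply, show (vecMulVec u' w)ᵀ j = w j • u' from funext fun i => by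
    simp [vecMulVec_apply, mul_comm], map_smul]
  simp [mul_comm]

namespace Model

variable (hm : Model Q f h)
include hm

theorem fswap (u u' : Fin a → F) : f u' u = -f u u' := alt_swap hm.altf u' u
theorem hswap (w w' : Fin b → F) : h w' w = -h w w' := alt_swap hm.alth w' w

theorem pol_left (u : Fin a → F) (w : Fin b → F) (X : Matrix (Fin a) (Fin b) F) :
    polar Q (vecMulVec u w) X = f u (ct2 a h w X) := by
  have e : ∀ Y, polar Q (vecMulVec u w) Y = polarBilin Q (vecMulVec u w) Y := fun Y => rfl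
  conv_lhs => rw [e, matrix_eq_sum X, map_sum]
  conv_rhs => rw [matrix_eq_sum X]
  simp only [← e, hm.pol, map_sum, ct2_vecMulVec, map_smul, smul_eq_mul, mul_comm]

theorem pol_left' (u : Fin a → F) (w : Fin b → F) (X : Matrix (Fin a) (Fin b) F) :
    polar Q (vecMulVec u w) X = h w (ct1 b f u X) := by
  have e : ∀ Y, polar Q (vecMulVec u w) Y = polarBilin Q (vecMulVec u w) Y := fun Y => rfl
  conv_lhs => rw [e, matrix_eq_sum X, map_sum]
  conv_rhs => rw [matrix_eq_sum X]
  simp only [← e, hm.pol, map_sum, ct1_vecMulVec, map_smul, smul_eq_mul]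

theorem pol_right (u : Fin a → F) (w : Fin b → F) (X : Matrix (Fin a) (Fin b) F) :
    polar Q X (vecMulVec u w) = f u (ct2 a h w X) := by
  rw [polar_comm, hm.pol_left]

theorem nondeg : (polarBilin Q).Nondegenerate := by
  have key : ∀ Y, (∀ u w, f u (ct2 a h w Y) = 0) → Y = 0 := fun Y hY => funext fun i => hm.ndh.2 _ fun w =>
    congrFun (hm.ndf.2 (ct2 a h w Y) fun u => hY u w) i
  exact ⟨fun Y hY => key Y fun u w => by rw [← hm.pol_right]; exact hY _,
    fun Y hY => key Y fun u w => by rw [← hm.pol_left]; exact hY _⟩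

theorem preserves (g : Matrix (Fin a) (Fin b) F →ₗ[F] Matrix (Fin a) (Fin b) F)
    (h0 : ∀ u w, Q (g (vecMulVec u w)) = 0)
    (hp : ∀ u u' w w', polar Q (g (vecMulVec u w)) (g (vecMulVec u' w')) = f u u' * h w w')
    (X : Matrix (Fin a) (Fin b) F) : Q (g X) = Q X := by
  classical
  have hP : ∀ Y Y', polar Q (g Y) (g Y') = polar Q Y Y' := fun Y Y' => by
    show polarBilin Q (g Y) (g Y') = polarBilin Q Y Y'
    rw [matrix_eq_sum Y, matrix_eq_sum Y']
    simp only [map_sum, LinearMap.sum_apply]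
    exact Finset.sum_congr rfl fun i _ => Finset.sum_congr rfl fun j _ =>
      (hp _ _ _ _).trans (hm.pol _ _ _ _).symm
  rw [matrix_eq_sum X]
  induction (Finset.univ : Finset (Fin a)) using Finset.induction_on with
  | empty => simp
  | insert i s his ih => rw [Finset.sum_insert his, map_add, quad_add', quad_add', h0, hm.pure, ih, hP]

theorem preserves_row {C : (Fin b → F) ≃ₗ[F] (Fin b → F)} (hC : C ∈ isomGroup h) (X : Matrix (Fin a) (Fin b) F) :
    Q (rowMap C X) = Q X :=
  hm.preserves (rowMap C).toLinearMap (fun u w => by simp [hm.pure]) (fun u u' w w' => by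
    simp [hm.pol, mem_isomGroup.1 hC]) X

theorem preserves_col {A : (Fin a → F) ≃ₗ[F] (Fin a → F)} (hA : A ∈ isomGroup f) (X : Matrix (Fin a) (Fin b) F) :
    Q (colMap A X) = Q X :=
  hm.preserves (colMap A).toLinearMap (fun u w => by simp [hm.pure]) (fun u u' w w' => by
    simp [hm.pol, mem_isomGroup.1 hA]) X

/-- Isometries of the second factor. -/
def row : isomGroup h →* orthGroup Q where
  toFun C := ⟨rowMap C.1, hm.preserves_row C.2⟩
  map_one' := rfl
  map_mul' _ _ := rfl

/-- Isometries of the first factor. -/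
def col : isomGroup f →* orthGroup Q where
  toFun A := ⟨colMap A.1, hm.preserves_col A.2⟩
  map_one' := rfl
  map_mul' _ _ := rfl

theorem row_pure (C : isomGroup h) (u : Fin a → F) (w : Fin b → F) :
    (hm.row C).1 (vecMulVec u w) = vecMulVec u (C.1 w) := rowMap_vecMulVec C.1 u w

theorem col_pure (A : isomGroup f) (u : Fin a → F) (w : Fin b → F) :
    (hm.col A).1 (vecMulVec u w) = vecMulVec (A.1 u) w := colMap_vecMulVec A.1 u w

theorem row_tensor (C : isomGroup h) : IsTensor (hm.row C).1 := isTensor_rowMap C.1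
theorem col_tensor (A : isomGroup f) : IsTensor (hm.col A).1 := isTensor_colMap A.1

theorem ct2_row (C : isomGroup h) (w : Fin b → F) (X : Matrix (Fin a) (Fin b) F) :
    ct2 a h (C.1 w) ((hm.row C).1 X) = ct2 a h w X :=
  funext fun i => mem_isomGroup.1 C.2 w (X i)

theorem ct2_col (A : isomGroup f) (w : Fin b → F) (X : Matrix (Fin a) (Fin b) F) :
    ct2 a h w ((hm.col A).1 X) = A.1 (ct2 a h w X) := by
  rw [matrix_eq_sum X]
  simp only [map_sum, hm.col_pure, ct2_vecMulVec, map_smul]

theorem row_tv (v : Fin b → F) (μ : F) (X : Matrix (Fin a) (Fin b) F) :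
    (hm.row (tv hm.alth v μ)).1 X = X - μ • vecMulVec (ct2 a h v X) v := funext fun i => by
  show (tv hm.alth v μ).1 (X i) = X i - μ • vecMulVec (ct2 a h v X) v i
  rw [tv_apply, vecMulVec_row, ct2_apply, hm.hswap v (X i), smul_smul]
  module

theorem col_tv (u : Fin a → F) (μ : F) (X : Matrix (Fin a) (Fin b) F) :
    (hm.col (tv hm.altf u μ)).1 X = X - μ • vecMulVec u (ct1 b f u X) := by
  refine Matrix.ext fun i j => ?_
  show (tv hm.altf u μ).1 (Xᵀ j) i = X i j - μ * vecMulVec u (ct1 b f u X) i j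
  rw [tv_apply, vecMulVec_apply, ct1_apply, hm.fswap u (Xᵀ j)]
  simp only [Pi.add_apply, Pi.smul_apply, smul_eq_mul, Matrix.transpose_apply]
  ring

/-- The Siegel element of two pure tensors. -/
theorem siegel_apply {g : orthGroup Q} {u u' : Fin a → F} {w w' : Fin b → F}
    (hg : IsSiegel g (vecMulVec u w) (vecMulVec u' w')) (X : Matrix (Fin a) (Fin b) F) :
    g.1 X = X + f u (ct2 a h w X) • vecMulVec u' w' - f u' (ct2 a h w' X) • vecMulVec u w := by
  rw [hg.2.2, hm.pure, hm.pol_left, hm.pol_left]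
  module

theorem exists_pure_siegel {u u' : Fin a → F} {w w' : Fin b → F} (h0 : f u u' * h w w' = 0) :
    ∃ g : orthGroup Q, IsSiegel g (vecMulVec u w) (vecMulVec u' w') :=
  exists_isSiegel hm.nondeg (hm.pure _ _) (by rw [hm.pol, h0])

variable [Fintype F]

theorem siegel_mem (hn : 5 ≤ finrank F (Matrix (Fin a) (Fin b) F)) {g : orthGroup Q}
    {d u : Matrix (Fin a) (Fin b) F} (hg : IsSiegel g d u) : g ∈ commutator (orthGroup Q) :=
  hg.mem_commutator hm.nondeg (good_of (Or.inr (by omega))) (exists_hypPairs hm.nondeg hn).some hn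

theorem row_mem (hn : 5 ≤ finrank F (Matrix (Fin a) (Fin b) F)) (C : isomGroup h) :
    hm.row C ∈ commutator (orthGroup Q) := by
  classical
  suffices H : tvGroup hm.alth ≤ (commutator (orthGroup Q)).comap hm.row from
    H (by rw [tvGroup_eq_top hm.alth hm.ndh]; trivial)
  refine (Subgroup.closure_le _).2 ?_
  rintro _ ⟨v, μ, rfl⟩
  obtain ⟨m, e, he⟩ := exists_sympBasis hm.altf hm.ndf
  have key : ∀ s : Finset (Fin m), ∃ g ∈ commutator (orthGroup Q), ∀ X, g.1 X =
      X - μ • vecMulVec (∑ i ∈ s, (-f (e (.inr i)) (ct2 a h v X) • e (.inl i) +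
        f (e (.inl i)) (ct2 a h v X) • e (.inr i))) v := by
    intro s
    induction s using Finset.induction_on with
    | empty => exact ⟨1, one_mem _, fun X => by simp⟩
    | insert i s his ih =>
      obtain ⟨g, hg, hgX⟩ := ih
      obtain ⟨k, hk⟩ := hm.exists_pure_siegel (u := e (.inl i)) (u' := (-μ) • e (.inr i)) (w := v) (w' := v)
        (by rw [hm.alth v, mul_zero])
      refine ⟨g * k, mul_mem hg (hm.siegel_mem hn hk), fun X => ?_⟩
      have hc : ct2 a h v (k.1 X) = ct2 a h v X := by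
        rw [hm.siegel_apply hk, map_sub, map_add, map_smul, map_smul, ct2_vecMulVec, ct2_vecMulVec, hm.alth v]
        simp
      show g.1 (k.1 X) = _
      rw [hgX, hc, hm.siegel_apply hk, Finset.sum_insert his, add_vecMulVec, add_vecMulVec, smul_vecMulVec,
        smul_vecMulVec, smul_vecMulVec, map_smul, LinearMap.smul_apply, smul_eq_mul]
      module
  obtain ⟨g, hg, hgX⟩ := key Finset.univ
  have hsum : ∀ x, x = ∑ i, (-f (e (.inr i)) x • e (.inl i) + f (e (.inl i)) x • e (.inr i)) := fun x => by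
    have hc1 : ∀ i, f (e (.inl i)) x = e.repr x (.inr i) := fun i => by
      conv_lhs => rw [← e.sum_repr x, map_sum, Fintype.sum_sum_type]
      simp [map_smul, he.1, he.2.1]
    have hc2 : ∀ i, f (e (.inr i)) x = -e.repr x (.inl i) := fun i => by
      conv_lhs => rw [← e.sum_repr x, map_sum, Fintype.sum_sum_type]
      simp [map_smul, hm.fswap (e (.inl _)) (e (.inr i)), he.1, he.2.2,
        Finset.sum_neg_distrib]
    conv_lhs => rw [← e.sum_repr x, Fintype.sum_sum_type, ← Finset.sum_add_distrib]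
    exact Finset.sum_congr rfl fun i _ => by rw [hc1, hc2, neg_neg]
  show hm.row (tv hm.alth v μ) ∈ commutator (orthGroup Q)
  rw [show hm.row (tv hm.alth v μ) = g from Subtype.ext (LinearEquiv.ext fun X => by
    rw [hgX, hm.row_tv, ← hsum])]
  exact hg

theorem col_mem (hn : 5 ≤ finrank F (Matrix (Fin a) (Fin b) F)) (A : isomGroup f) :
    hm.col A ∈ commutator (orthGroup Q) := by
  classical
  suffices H : tvGroup hm.altf ≤ (commutator (orthGroup Q)).comap hm.col from
    H (by rw [tvGroup_eq_top hm.altf hm.ndf]; trivial)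
  refine (Subgroup.closure_le _).2 ?_
  rintro _ ⟨v, μ, rfl⟩
  obtain ⟨m, e, he⟩ := exists_sympBasis hm.alth hm.ndh
  have key : ∀ s : Finset (Fin m), ∃ g ∈ commutator (orthGroup Q), ∀ X, g.1 X =
      X - μ • vecMulVec v (∑ i ∈ s, (-h (e (.inr i)) (ct1 b f v X) • e (.inl i) +
        h (e (.inl i)) (ct1 b f v X) • e (.inr i))) := by
    intro s
    induction s using Finset.induction_on with
    | empty => exact ⟨1, one_mem _, fun X => by simp [TensorMax.vecMulVec_zero']⟩
    | insert i s his ih =>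
      obtain ⟨g, hg, hgX⟩ := ih
      obtain ⟨k, hk⟩ := hm.exists_pure_siegel (u := v) (u' := v) (w := e (.inl i)) (w' := (-μ) • e (.inr i))
        (by rw [hm.altf v, zero_mul])
      refine ⟨g * k, mul_mem hg (hm.siegel_mem hn hk), fun X => ?_⟩
      have hc : ct1 b f v (k.1 X) = ct1 b f v X := by
        rw [hm.siegel_apply hk, map_sub, map_add, map_smul, map_smul, ct1_vecMulVec, ct1_vecMulVec, hm.altf v]
        simp
      show g.1 (k.1 X) = _
      rw [hgX, hc, hm.siegel_apply hk, ← hm.pol_left, ← hm.pol_left, hm.pol_left', hm.pol_left',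
        Finset.sum_insert his, vecMulVec_add, vecMulVec_add, vecMulVec_smul, vecMulVec_smul, vecMulVec_smul,
        map_smul, LinearMap.smul_apply, smul_eq_mul]
      module
  obtain ⟨g, hg, hgX⟩ := key Finset.univ
  have hsum : ∀ x, x = ∑ i, (-h (e (.inr i)) x • e (.inl i) + h (e (.inl i)) x • e (.inr i)) := fun x => by
    have hc1 : ∀ i, h (e (.inl i)) x = e.repr x (.inr i) := fun i => by
      conv_lhs => rw [← e.sum_repr x, map_sum, Fintype.sum_sum_type]
      simp [map_smul, he.1, he.2.1]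
    have hc2 : ∀ i, h (e (.inr i)) x = -e.repr x (.inl i) := fun i => by
      conv_lhs => rw [← e.sum_repr x, map_sum, Fintype.sum_sum_type]
      simp [map_smul, hm.hswap (e (.inl _)) (e (.inr i)), he.1, he.2.2,
        Finset.sum_neg_distrib]
    conv_lhs => rw [← e.sum_repr x, Fintype.sum_sum_type, ← Finset.sum_add_distrib]
    exact Finset.sum_congr rfl fun i _ => by rw [hc1, hc2, neg_neg]
  show hm.col (tv hm.altf v μ) ∈ commutator (orthGroup Q)
  rw [show hm.col (tv hm.altf v μ) = g from Subtype.ext (LinearEquiv.ext fun X => by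
    rw [hgX, hm.col_tv, ← hsum])]
  exact hg

end Model

/-- `M` contains the tensor maps of `Ω`. -/
def ContainsTensor (M : Subgroup (orthGroup Q)) : Prop :=
  ∀ g ∈ commutator (orthGroup Q), IsTensor g.1 → g ∈ M

theorem mul_apply' (g k : orthGroup Q) (x : Matrix (Fin a) (Fin b) F) : (g * k).1 x = g.1 (k.1 x) := rfl

end CfsgLib.Classical.TensorMaxS
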