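import Cfsg.Agent.Lib.Classical.TensorMaxS.Basic

/-!
# An element outside the stabiliser mapping a slice onto a slice
-/

set_option autoImplicit false
set_option linter.unusedSectionVars false

namespace CfsgLib.Classical.TensorMaxS

open Matrix Module QuadraticMap CfsgLib.Orth CfsgLib.Classical
open CfsgLib.Classical.TensorMax (IsTensor)

variable {F : Type*} [Field F] [Fintype F] {a b : ℕ} {Q : QuadraticForm F (Matrix (Fin a) (Fin b) F)}
  {f : (Fin a → F) →ₗ[F] (Fin a → F) →ₗ[F] F} {h : (Fin b → F) →ₗ[F] (Fin b → F) →ₗ[F] F}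
  {M : Subgroup (orthGroup Q)}

/-- Some element of `M` outside the stabiliser maps `i` dimensions of a slice into a slice. -/
def Good (M : Subgroup (orthGroup Q)) (i : ℕ) : Prop :=
  ∃ g ∈ M, ¬ IsTensor g.1 ∧ ∃ (W₀ : Submodule F (Fin a → F)) (b₀ c : Fin b → F),
    b₀ ≠ 0 ∧ i ≤ finrank F W₀ ∧ ∀ w ∈ W₀, ∃ w', g.1 (vecMulVec w b₀) = vecMulVec w' c

theorem good_top {g : orthGroup Q} (hg : g ∈ M) (hgT : ¬ IsTensor g.1) {v c : Fin b → F} (hv0 : v ≠ 0)
    (hs : ∀ z, ∃ z', g.1 (vecMulVec z v) = vecMulVec z' c) {i : ℕ} (hi : i ≤ a) : Good M i :=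
  ⟨g, hg, hgT, ⊤, v, c, hv0, by rwa [finrank_top, finrank_fin_fun], fun w _ => hs w⟩

theorem not_isTensor_inv {g : orthGroup Q} (hgT : ¬ IsTensor g.1) : ¬ IsTensor (g⁻¹).1 := fun hT =>
  hgT (by simpa using hT.inv)

namespace Model

variable (hm : Model Q f h)
include hm

theorem root_elt_apply (g : orthGroup Q) (v : Fin b → F) (μ : F) (X : Matrix (Fin a) (Fin b) F) :
    (g⁻¹ * hm.row (tv hm.alth v μ) * g).1 X = X - μ • g.1.symm (vecMulVec (ct2 a h v (g.1 X)) v) := by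
  show g.1.symm ((hm.row (tv hm.alth v μ)).1 (g.1 X)) = _
  rw [hm.row_tv, map_sub, map_smul, g.1.symm_apply_apply]

/-- A conjugate transvection that is a tensor map gives a slice. -/
theorem slice_of_tensor (hab : a < b) (ha : 0 < a) {g : orthGroup Q} {v : Fin b → F} (hv : v ≠ 0)
    (hT : IsTensor (g⁻¹ * hm.row (tv hm.alth v 1) * g).1) :
    ∃ c, ∀ z, ∃ z', (g⁻¹).1 (vecMulVec z v) = vecMulVec z' c := by
  set U : Matrix (Fin a) (Fin b) F →ₗ[F] Matrix (Fin a) (Fin b) F :=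
    -(g.1.symm.toLinearMap ∘ₗ TensorMaxU.sl2 a v ∘ₗ ct2 a h v ∘ₗ g.1.toLinearMap) with hUdef
  have hU : ∀ X, (g⁻¹ * hm.row (tv hm.alth v 1) * g).1 X = X + U X := fun X => by
    rw [hm.root_elt_apply, one_smul, sub_eq_add_neg]; rfl
  have hr : finrank F (LinearMap.range U) ≤ a := by
    have hle : LinearMap.range U ≤ LinearMap.range (g.1.symm.toLinearMap ∘ₗ TensorMaxU.sl2 a v) := by
      rintro _ ⟨X, rfl⟩
      exact ⟨-ct2 a h v (g.1 X), by simp [hUdef]⟩
    exact (Submodule.finrank_mono hle).trans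
      (by simpa using LinearMap.finrank_range_le (g.1.symm.toLinearMap ∘ₗ TensorMaxU.sl2 a v))
  obtain ⟨η, c, hηc⟩ := TensorMax.range_of_isTensor hab ha hT hU hr
  obtain ⟨d, hd⟩ := alt_exists_partner hm.ndh.1 hv
  refine ⟨c, fun z => ⟨-(g.1.symm (vecMulVec z d) *ᵥ η), ?_⟩⟩
  rw [neg_vecMulVec, ← hηc, hUdef]
  simp [hd]

/-- The first element of the climb. -/
theorem good_one (hM : ContainsTensor M) (hn : 5 ≤ finrank F (Matrix (Fin a) (Fin b) F)) (ha : 0 < a) (hab : a < b)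
    {g : orthGroup Q} (hg : g ∈ M) (hgT : ¬ IsTensor g.1) : Good M 1 := by
  set v : Fin b → F := Pi.single ⟨0, by omega⟩ 1 with hvdef
  have hv : v ≠ 0 := by simp [hvdef]
  set k := g⁻¹ * hm.row (tv hm.alth v 1) * g with hk
  have hkM : k ∈ M := M.mul_mem (M.mul_mem (M.inv_mem hg) (hM _ (hm.row_mem hn _) (hm.row_tensor _))) hg
  by_cases hkT : IsTensor k.1
  · obtain ⟨c, hc⟩ := hm.slice_of_tensor hab ha hv hkT
    exact good_top (M.inv_mem hg) (not_isTensor_inv hgT) hv hc ha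
  set u : Fin a → F := Pi.single ⟨0, ha⟩ 1 with hudef
  have hu : u ≠ 0 := by simp [hudef]
  obtain ⟨d, hd0, hd⟩ := TensorMax.exists_perp (ct2 a h v ∘ₗ g.1.toLinearMap ∘ₗ TensorMaxU.sl1 b u)
    (by rw [finrank_fin_fun]; exact hab)
  refine ⟨k, hkM, hkT, F ∙ u, d, d, hd0, by rw [finrank_span_singleton hu], fun w hw => ⟨w, ?_⟩⟩
  obtain ⟨t, rfl⟩ := Submodule.mem_span_singleton.1 hw
  rw [smul_vecMulVec, map_smul, hk, hm.root_elt_apply,
    show ct2 a h v (g.1 (vecMulVec u d)) = 0 from hd, zero_vecMulVec, map_zero, smul_zero, sub_zero]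

/-- One step of the climb. -/
theorem step (hM : ContainsTensor M) (hn : 5 ≤ finrank F (Matrix (Fin a) (Fin b) F)) (hab : a + 1 < b) {i : ℕ}
    (hia : i < a) (hgood : Good M i) : Good M (i + 1) := by
  classical
  obtain ⟨g, hg, hgT, W₀, b₀, c, hb0, hW₀, hslice⟩ := hgood
  by_cases hbig : i + 1 ≤ finrank F W₀
  · exact ⟨g, hg, hgT, W₀, b₀, c, hb0, hbig, hslice⟩
  obtain ⟨x, hx⟩ : ∃ x, x ∉ W₀ := by
    by_contra! hall
    have : W₀ = ⊤ := top_unique fun x _ => hall x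
    rw [this, finrank_top, finrank_fin_fun] at hbig
    omega
  set Z := g.1 (vecMulVec x b₀) with hZ
  obtain ⟨v, hv, hker⟩ := TensorMax.exists_perp ((h.flip c).prod ((ct2 a h).flip Z))
    (by rw [finrank_prod, finrank_self, finrank_fin_fun]; omega)
  simp only [LinearMap.prod_apply, Function.prod, LinearMap.flip_apply, Prod.mk_eq_zero] at hker
  set k := g⁻¹ * hm.row (tv hm.alth v 1) * g with hk
  have hkM : k ∈ M := M.mul_mem (M.mul_mem (M.inv_mem hg) (hM _ (hm.row_mem hn _) (hm.row_tensor _))) hg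
  by_cases hkT : IsTensor k.1
  · obtain ⟨c', hc'⟩ := hm.slice_of_tensor (by omega) (by omega) hv hkT
    exact good_top (M.inv_mem hg) (not_isTensor_inv hgT) hv hc' (by omega)
  refine ⟨k, hkM, hkT, W₀ ⊔ F ∙ x, b₀, b₀, hb0, ?_, fun w hw => ⟨w, ?_⟩⟩
  · have hlt : W₀ < W₀ ⊔ F ∙ x := lt_of_le_of_ne le_sup_left fun heq =>
      hx (show x ∈ W₀ from heq ▸ Submodule.mem_sup_right (Submodule.mem_span_singleton_self x))
    have := Submodule.finrank_lt_finrank_of_lt hlt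
    omega
  obtain ⟨l, hl, w', hw', rfl⟩ := Submodule.mem_sup.1 hw
  obtain ⟨t, rfl⟩ := Submodule.mem_span_singleton.1 hw'
  obtain ⟨l', hl'⟩ := hslice l hl
  have e : ct2 a h v (g.1 (vecMulVec (l + t • x) b₀)) = 0 := by
    rw [add_vecMulVec, smul_vecMulVec, map_add g.1, map_smul g.1, hl', ← hZ, map_add, map_smul, ct2_vecMulVec, hker.1,
      hker.2, zero_smul, smul_zero, add_zero]
  rw [hk, hm.root_elt_apply, e, zero_vecMulVec, map_zero, smul_zero, sub_zero]

/-- Some element of `M` outside the stabiliser maps a whole slice onto a slice. -/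
theorem good_full (hM : ContainsTensor M) (hn : 5 ≤ finrank F (Matrix (Fin a) (Fin b) F)) (ha : 0 < a)
    (hab : a + 1 < b) {g : orthGroup Q} (hg : g ∈ M) (hgT : ¬ IsTensor g.1) :
    ∃ g ∈ M, ¬ IsTensor g.1 ∧ ∃ b₀ c : Fin b → F, b₀ ≠ 0 ∧ ∀ u, ∃ u', g.1 (vecMulVec u b₀) = vecMulVec u' c := by
  have hgood : ∀ i, 1 ≤ i → i ≤ a → Good M i := by
    intro i h1
    induction i, h1 using Nat.le_induction with
    | base => exact fun _ => hm.good_one hM hn ha (by omega) hg hgT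
    | succ j _ ih => exact fun hj => hm.step hM hn hab (by omega) (ih (by omega))
  obtain ⟨g, hg, hgT, W₀, b₀, c, hb0, hW₀, hs⟩ := hgood a ha le_rfl
  have hWtop : W₀ = ⊤ := Submodule.eq_top_of_finrank_eq (by
    have := Submodule.finrank_le W₀
    rw [finrank_fin_fun] at this ⊢
    omega)
  exact ⟨g, hg, hgT, b₀, c, hb0, fun u => hs u (hWtop ▸ Submodule.mem_top)⟩

end Model

end CfsgLib.Classical.TensorMaxS
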