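import Cfsg.Agent.Lib.Classical.TensorMaxS.Rad

/-!
# A Siegel element with pure parameters from a radical element
-/

set_option autoImplicit false
set_option linter.unusedSectionVars false

namespace CfsgLib.Classical.TensorMaxS

open Matrix Module QuadraticMap CfsgLib.Orth CfsgLib.Classical
open CfsgLib.Classical.TensorMax (IsTensor)

variable {F : Type*} [Field F] {a b : ℕ} {Q : QuadraticForm F (Matrix (Fin a) (Fin b) F)}
  {f : (Fin a → F) →ₗ[F] (Fin a → F) →ₗ[F] F} {h : (Fin b → F) →ₗ[F] (Fin b → F) →ₗ[F] F}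
  {M : Subgroup (orthGroup Q)} {c r : Fin b → F} {T S : (Fin a → F) →ₗ[F] (Fin a → F)}

namespace Model

variable (hm : Model Q f h) (hMc : ∀ A : isomGroup f, hm.col A ∈ M) (hMr : ∀ C : isomGroup h, hm.row C ∈ M)
include hm hMc hMr

omit hMr in
theorem start_of_perp (hc : c ≠ 0) (hr : r ∉ F ∙ c) (hcr : h c r = 0) (e : hm.El M c r T S) {n : Fin a → F}
    (hTn : T n = 0) (hnT : ∀ x, f n (T x) = 0) (hn : S n ∉ F ∙ n) : Start₂ M f := by
  have hr0 : r ≠ 0 := fun e' => hr (by rw [e']; exact zero_mem _)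
  have halt := e.alt hm hr0 hr hc hcr
  set S' : (Fin a → F) →ₗ[F] (Fin a → F) := (f (S n)).smulRight n - (f n).smulRight (S n) with hS'
  have hn0 : n ≠ 0 := fun e' => hn (by rw [e', map_zero]; exact zero_mem _)
  have e' := e.comm hm hMc hcr n 1 (T' := 0) (S' := S') (fun x => by simp [hTn, hnT]) fun x => by
    show f (S n) x • n - f n x • S n = _
    rw [self_adjoint_of_alt hm.altf halt n x, halt n]
    simp
  obtain ⟨y, hny, hSy⟩ := exists_dual2 hm.altf hm.ndf (indep_swap hn0 hn)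
  refine hm.start_of_centre hMc hc hr hcr e' (n := y) fun hmem => ?_
  obtain ⟨t, ht⟩ := Submodule.mem_span_singleton.1 hmem
  have e2 : S' y = -S n := by simp [hS', hny, hSy]
  rw [e2] at ht
  have h1 := congrArg (f n) ht
  rw [map_neg, halt, neg_zero, map_smul, hny, smul_eq_mul, mul_one] at h1
  rw [h1, zero_smul] at ht
  exact hn (by rw [neg_eq_zero.1 ht.symm]; exact zero_mem _)

omit hMr in
theorem row_el {S₀ : F} (hcr : h c r = 0) (hMc' : hm.row (tv hm.alth c S₀) ∈ M) :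
    hm.El M c r 0 ((-S₀) • LinearMap.id) :=
  ⟨_, hMc', fun X => by
    rw [hm.row_tv, LinearMap.zero_apply, zero_add, show adj hm.ndf (0 : (Fin a → F) →ₗ[F] (Fin a → F)) = 0 from
      adj_eq hm.altf hm.ndf (by simp), LinearMap.zero_apply, zero_vecMulVec, add_zero, LinearMap.smul_apply,
      LinearMap.id_apply, smul_vecMulVec, neg_smul, sub_eq_add_neg]⟩

theorem add_scalar (hcr : h c r = 0) (e : hm.El M c r T S) (s : F) : hm.El M c r T (S - s • LinearMap.id) := by
  have e' := e.add hm hcr (hm.row_el hMc hcr (hMr (tv hm.alth c s)))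
  rwa [add_zero, show S + (-s) • LinearMap.id = S - s • LinearMap.id from LinearMap.ext fun x => by simp; abel] at e'

/-- The case of a rank one parameter. -/
theorem start_of_rank_one (hc : c ≠ 0) (hr : r ∉ F ∙ c) (hcr : h c r = 0) {v : Fin a → F} {κ : F} (hv : v ≠ 0)
    (hκ : κ ≠ 0) (e : hm.El M c r (κ • (f v).smulRight v) S) : Start₁ M h ∨ Start₂ M f := by
  have hr0 : r ≠ 0 := fun e' => hr (by rw [e']; exact zero_mem _)
  by_cases hall : ∀ n ∈ LinearMap.ker (f v), S n ∈ F ∙ n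
  swap
  · push Not at hall
    obtain ⟨n, hnv, hn⟩ := hall
    have hnv' : f v n = 0 := hnv
    exact Or.inr (hm.start_of_perp hMc hc hr hcr e (by simp [hnv'])
      (fun x => by simp [hm.fswap v n, hnv']) hn)
  obtain ⟨s, hs⟩ := exists_eigen_on _ hall
  have e' := hm.add_scalar hMc hMr hcr e s
  set S' := S - s • LinearMap.id with hS'
  have halt := e'.alt hm hr0 hr hc hcr
  have hW : ∀ x, f v x = 0 → S' x = 0 := fun x hx => by simp [hS', hs x hx]
  obtain ⟨d, hd⟩ := alt_exists_partner hm.ndf.1 hv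
  have hS0 : S' = 0 := LinearMap.ext fun x => eq_of_forall hm.ndf fun u => by
    have hx : ∀ y, f v (y - f v y • d) = 0 := fun y => by rw [map_sub, map_smul, hd, smul_eq_mul, mul_one, sub_self]
    have e1 : S' x = f v x • S' d := by
      conv_lhs => rw [← sub_add_cancel x (f v x • d), map_add, hW _ (hx x), zero_add, map_smul]
    have e2 : f u (S' d) = f v u * f d (S' d) := by
      conv_lhs => rw [← sub_add_cancel u (f v u • d), map_add, LinearMap.add_apply,
        ← self_adjoint_of_alt hm.altf halt, hW _ (hx u), map_zero, LinearMap.zero_apply, zero_add, map_smul,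
        LinearMap.smul_apply, smul_eq_mul]
    rw [LinearMap.zero_apply, map_zero, e1, map_smul, e2, halt, mul_zero, smul_zero]
  rw [hS0] at e'
  obtain ⟨z, hz, hX⟩ := e'
  have hadj : adj hm.ndf (κ • (f v).smulRight v) = -(κ • (f v).smulRight v) := adj_eq hm.altf hm.ndf fun u y => by
    simp only [LinearMap.smul_apply, LinearMap.smulRight_apply, LinearMap.neg_apply, map_neg, map_smul,
      LinearMap.smul_apply, smul_eq_mul, hm.fswap v u]
    ring
  refine Or.inl ⟨v, c, (-κ) • r, hv, hc, fun hmem => hr ?_, by rw [map_smul, hcr, smul_zero], fun g hg => ?_⟩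
  · have := Submodule.smul_mem _ (-κ)⁻¹ hmem
    rwa [inv_smul_smul₀ (neg_ne_zero.2 hκ)] at this
  rwa [show g = z from Subtype.ext (LinearEquiv.ext fun X => by
    rw [hm.siegel_apply hg, hX, hadj]
    simp only [LinearMap.smul_apply, LinearMap.smulRight_apply, LinearMap.zero_apply, LinearMap.neg_apply, add_zero,
      map_smul, smul_vecMulVec, vecMulVec_smul, neg_vecMulVec, smul_smul, smul_eq_mul]
    module)]

/-- The case of a self-adjoint parameter. -/
theorem start_of_selfadj (hb : 5 ≤ b) (hc : c ≠ 0) (hr : r ∉ F ∙ c) (hcr : h c r = 0) (e : hm.El M c r T S)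
    (hT : ∀ u, f u (T u) = 0) {v : Fin a → F} (hv : T v ∉ F ∙ v) : Start₁ M h ∨ Start₂ M f := by
  have hr0 : r ≠ 0 := fun e' => hr (by rw [e']; exact zero_mem _)
  have hv0 : v ≠ 0 := fun e' => hv (by rw [e', map_zero]; exact zero_mem _)
  set w := T v with hw
  have hvw : f v w = 0 := hT v
  have hwv : f w v = 0 := hm.altf.isRefl _ _ hvw
  set T₁ : (Fin a → F) →ₗ[F] (Fin a → F) := (f w).smulRight v - (f v).smulRight w with hT₁
  have hT₁x : ∀ x, T₁ x = f w x • v - f v x • w := fun x => rfl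
  have halt0 := e.alt hm hr0 hr hc hcr
  set S₁ : (Fin a → F) →ₗ[F] (Fin a → F) := (f (S v)).smulRight v - (f v).smulRight (S v) with hS₁
  have e₁ : hm.El M c r T₁ S₁ := e.comm hm hMc hcr v 1 (fun x => by
      rw [hT₁x, self_adjoint_of_alt hm.altf hT v x, hT v]
      simp [hw]) fun x => by
      show f (S v) x • v - f v x • S v = _
      rw [self_adjoint_of_alt hm.altf halt0 v x, halt0 v]
      simp
  by_cases hall : ∀ n ∈ LinearMap.ker (f v) ⊓ LinearMap.ker (f w), S₁ n ∈ F ∙ n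
  swap
  · push Not at hall
    obtain ⟨n, hn', hn⟩ := hall
    have hnv : f v n = 0 := hn'.1
    have hnw : f w n = 0 := hn'.2
    exact Or.inr (hm.start_of_perp hMc hc hr hcr e₁ (by simp [hT₁x, hnv, hnw])
      (fun x => by simp [hT₁x, hm.fswap v n, hm.fswap w n, hnv, hnw]) hn)
  obtain ⟨s, hs⟩ := exists_eigen_on _ hall
  have e₂ := hm.add_scalar hMc hMr hcr e₁ s
  set S₂ := S₁ - s • LinearMap.id with hS₂
  have halt := e₂.alt hm hr0 hr hc hcr
  obtain ⟨n, hvn, hwn⟩ := exists_dual2 hm.altf hm.ndf (indep_swap hv0 hv)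
  obtain ⟨m, hwm, hvm⟩ := exists_dual2 hm.altf hm.ndf hv
  set ρ := -f n (S₂ m) with hρ
  have hS₂T : S₂ = ρ • T₁ := LinearMap.ext fun x => eq_of_forall hm.ndf fun u => by
    have hL : ∀ y, S₂ (y - f v y • n - f w y • m) = 0 := fun y => by
      have hy : y - f v y • n - f w y • m ∈ LinearMap.ker (f v) ⊓ LinearMap.ker (f w) :=
        ⟨by simp [hvn, hvm], by simp [hwn, hwm]⟩
      simp [hS₂, hs _ hy]
    have e1 : ∀ y, S₂ y = f v y • S₂ n + f w y • S₂ m := fun y => by
      have := hL y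
      rw [map_sub, map_sub, map_smul, map_smul, sub_sub, sub_eq_zero] at this
      exact this
    rw [e1 x, LinearMap.smul_apply, hT₁x]
    simp only [map_add, map_sub, map_smul, smul_eq_mul]
    rw [← self_adjoint_of_alt hm.altf halt u n, ← self_adjoint_of_alt hm.altf halt u m, e1 u]
    simp only [map_add, map_smul, LinearMap.add_apply, LinearMap.smul_apply, smul_eq_mul]
    rw [self_adjoint_of_alt hm.altf halt n n, halt n, self_adjoint_of_alt hm.altf halt m m, halt m,
      self_adjoint_of_alt hm.altf halt n m, hm.fswap n (S₂ m), hρ, hm.fswap v u, hm.fswap w u]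
    ring
  rw [hS₂T] at e₂
  have hadj₁ : adj hm.ndf T₁ = T₁ := adj_eq hm.altf hm.ndf fun u y => by
    simp only [hT₁x, map_sub, map_smul, LinearMap.sub_apply, LinearMap.smul_apply, smul_eq_mul, hm.fswap v u,
      hm.fswap w u]
    ring
  obtain ⟨z, hz, hX⟩ := e₂
  -- the second copy
  obtain ⟨c', hrc', hcc'⟩ := exists_dual2 hm.alth hm.ndh hr
  obtain ⟨d, hd⟩ := alt_exists_partner hm.ndh.1 hc
  obtain ⟨r', hr'0, hr'⟩ := TensorMax.exists_perp ((((h c).prod (h r)).prod (h c')).prod (h d))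
    (by rw [finrank_prod, finrank_prod, finrank_prod, finrank_self]; omega)
  simp only [LinearMap.prod_apply, Function.prod, Prod.mk_eq_zero] at hr'
  obtain ⟨⟨⟨hcr', hrr'⟩, hc'r'⟩, hdr'⟩ := hr'
  have hc'0 : c' ≠ 0 := fun e' => by rw [e', map_zero] at hrc'; exact zero_ne_one hrc'
  have hr'c' : r' ∉ F ∙ c' := fun hmem => by
    obtain ⟨t, ht⟩ := Submodule.mem_span_singleton.1 hmem
    rw [← ht, map_smul, hrc', smul_eq_mul, mul_one] at hrr'
    exact hr'0 (by rw [← ht, hrr', zero_smul])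
  have hvm' : m ∉ F ∙ v := fun hmem => by
    obtain ⟨t, ht⟩ := Submodule.mem_span_singleton.1 hmem
    rw [← ht, map_smul, hwv, smul_zero] at hwm
    exact zero_ne_one hwm
  obtain ⟨A, hAv, hAw⟩ := exists_isom_pair hm.altf hm.ndf hv0 hv hvw hv0 hvm' hvm
  obtain ⟨C, hCc, hCr⟩ := exists_isom_pair hm.alth hm.ndh hc hr hcr hc'0 hr'c' hc'r'
  set T₂ : (Fin a → F) →ₗ[F] (Fin a → F) := (f m).smulRight v - (f v).smulRight m with hT₂
  have hT₂x : ∀ x, T₂ x = f m x • v - f v x • m := fun x => rfl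
  set z' := (hm.row C * hm.col A) * z * (hm.row C * hm.col A)⁻¹ with hz'def
  have hz' : z' ∈ M := M.mul_mem (M.mul_mem (M.mul_mem (hMr C) (hMc A)) hz) (M.inv_mem (M.mul_mem (hMr C) (hMc A)))
  have hAT : A.1.toLinearMap ∘ₗ T₁ ∘ₗ (A⁻¹).1.toLinearMap = T₂ := LinearMap.ext fun x => by
    have e1 : ∀ y, f (A.1 y) x = f y ((A⁻¹).1 x) := fun y => by
      rw [← mem_isomGroup.1 A.2 y]
      exact congrArg _ (A.1.apply_symm_apply x).symm
    simp only [LinearMap.comp_apply, LinearEquiv.coe_coe, hT₁x, hT₂x, map_sub, map_smul, hAv, hAw, ← e1]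
  have hX' : ∀ X, z'.1 X = X + vecMulVec (T₂ (ct2 a h r' X) + (ρ • T₂) (ct2 a h c' X)) c' +
      vecMulVec (T₂ (ct2 a h c' X)) r' := fun X => by
    have eX : (hm.col A).1 ((hm.col A⁻¹).1 ((hm.row C⁻¹).1 X)) = (hm.row C⁻¹).1 X := by
      rw [← mul_apply', ← map_mul, mul_inv_cancel, map_one]; rfl
    have eY : (hm.row C).1 ((hm.row C⁻¹).1 X) = X := by
      rw [← mul_apply', ← map_mul, mul_inv_cancel, map_one]; rfl
    have e1 : ∀ w, ct2 a h w ((hm.row C⁻¹).1 X) = ct2 a h (C.1 w) X := fun w => by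
      conv_rhs => rw [← eY, hm.ct2_row]
    rw [hz'def, _root_.mul_inv_rev, ← map_inv, ← map_inv]
    simp only [mul_apply', hX, map_add, eX, eY, hm.col_pure, hm.row_pure, hm.ct2_col, e1, hCc, hCr, hadj₁, ← hAT,
      LinearMap.smul_apply, map_smul, LinearMap.comp_apply, LinearEquiv.coe_coe]
  clear_value z'
  have hrc : h r c = 0 := hm.alth.isRefl _ _ hcr
  refine Or.inl ⟨v, c, r' + ρ • c', hv0, hc, fun hmem => ?_, by rw [map_add, map_smul, hcr', hcc']; simp,
    fun g hg => ?_⟩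
  · obtain ⟨t, ht⟩ := Submodule.mem_span_singleton.1 hmem
    have h1 := congrArg (h r) ht
    rw [map_smul, hrc, smul_zero, map_add, map_smul, hrr', hrc', zero_add, smul_eq_mul, mul_one] at h1
    rw [← h1, zero_smul, add_zero] at ht
    have h2 := congrArg (h d) ht
    rw [map_smul, hm.hswap c d, hd, hdr', smul_eq_mul] at h2
    rw [mul_eq_zero] at h2
    exact hr'0 (by rw [← ht, h2.resolve_right (by simp), zero_smul])
  have e3 : z * z' = g * (z' * z) := Subtype.ext (LinearEquiv.ext fun X => by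
    show z.1 (z'.1 X) = g.1 (z'.1 (z.1 X))
    rw [hm.siegel_apply hg]
    simp only [hX, hX', hadj₁, map_add, map_smul, LinearMap.add_apply, LinearMap.smul_apply, ct2_vecMulVec,
      smul_eq_mul, hm.alth c, hm.alth r, hm.alth c', hm.alth r', hcr, hrc, hcc', hrc', hc'r', hcr', hrr',
      hm.hswap c c', hm.hswap r c', hm.hswap r r', hm.hswap c r', hm.hswap c' r', hT₁x, hT₂x, map_sub,
      LinearMap.sub_apply, hm.altf v, hm.altf w, hm.altf m, hvw, hwv, hvm, hwm, hm.fswap v m, hm.fswap w m, neg_zero]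
    simp only [zero_smul, smul_zero, add_zero, zero_add, sub_zero, zero_sub, one_smul, neg_smul, map_zero, mul_zero,
      zero_mul, add_vecMulVec, sub_vecMulVec, neg_vecMulVec, smul_vecMulVec, vecMulVec_add, vecMulVec_smul,
      zero_vecMulVec]
    module)
  rw [show g = z * z' * (z' * z)⁻¹ by rw [e3, mul_inv_cancel_right]]
  exact M.mul_mem (M.mul_mem hz hz') (M.inv_mem (M.mul_mem hz' hz))

/-- The remaining case, when the first factor has dimension at least four. -/
theorem start_of_hyp (ha : 4 ≤ a) (hc : c ≠ 0) (hr : r ∉ F ∙ c) (hcr : h c r = 0) (e : hm.El M c r T S)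
    {v : Fin a → F} (hτ : f v (T v) = 1) : Start₂ M f := by
  have hr0 : r ≠ 0 := fun e' => hr (by rw [e']; exact zero_mem _)
  set w := T v with hw
  set w' := adj hm.ndf T v with hw'
  have hw'x : ∀ x, f w' x = f v (T x) := fun x => adj_left hm.ndf T v x
  set T₁ : (Fin a → F) →ₗ[F] (Fin a → F) := (f (w' - v)).smulRight v - (f v).smulRight w with hT₁
  have hT₁x : ∀ x, T₁ x = f (w' - v) x • v - f v x • w := fun x => rfl
  set S₁ : (Fin a → F) →ₗ[F] (Fin a → F) :=
    (f v ∘ₗ S).smulRight v - (f v).smulRight (S v) - ((f v (S v)) • f v).smulRight v with hS₁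
  have e₁ : hm.El M c r T₁ S₁ := e.comm hm hMc hcr v 1 (fun x => by
      rw [hT₁x, map_sub, LinearMap.sub_apply, hw'x, hτ]
      module) fun x => by
      simp only [hS₁, LinearMap.sub_apply, LinearMap.smulRight_apply, LinearMap.comp_apply, LinearMap.smul_apply,
        smul_eq_mul]
      module
  have hadj₁ : ∀ x, adj hm.ndf T₁ x = f w x • v - f v x • (w' - v) := fun x => by
    rw [adj_eq hm.altf hm.ndf (T' := (f w).smulRight v - (f v).smulRight (w' - v)) fun u y => by
      simp only [hT₁x, LinearMap.sub_apply, LinearMap.smulRight_apply, map_sub, map_smul, LinearMap.smul_apply,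
        smul_eq_mul, hm.fswap v u, hm.fswap w' u]
      ring]
    rfl
  set E := w + w' - v with hE
  have hv0 : v ≠ 0 := fun e' => by rw [e', map_zero, LinearMap.zero_apply] at hτ; exact zero_ne_one hτ
  have hvE : f v E = 0 := by
    have h1 : f v w' = -1 := by rw [hm.fswap w' v, hw'x, hτ]
    rw [hE, map_sub, map_add, h1, hτ, hm.altf v]; ring
  by_cases hEv : E ∉ F ∙ v
  · have e₂ := e₁.shear hm hMr hc hr hcr
    have hEv' : v ∉ F ∙ E := indep_swap hv0 hEv
    obtain ⟨y, hvy, hEy⟩ := exists_dual2 hm.altf hm.ndf hEv'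
    refine hm.start_of_centre hMc hc hr hcr e₂ (n := y) fun hmem => ?_
    have e3 : (T₁ + adj hm.ndf T₁) y = -E := by
      rw [LinearMap.add_apply, hT₁x, hadj₁, hvy]
      have h1 : f E y = f (w' - v) y + f w y := by rw [hE, map_sub, map_add]; simp; ring
      rw [hEy] at h1
      have h2 : f (w' - v) y = -f w y := by linear_combination -h1
      rw [h2, hE]
      module
    rw [e3] at hmem
    obtain ⟨t, ht⟩ := Submodule.mem_span_singleton.1 hmem
    have h1 := congrArg (f v) ht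
    rw [map_smul, hvy, map_neg, hvE, neg_zero, smul_eq_mul, mul_one] at h1
    rw [h1, zero_smul] at ht
    exact hEv (by rw [neg_eq_zero.1 ht.symm]; exact zero_mem _)
  push Not at hEv
  obtain ⟨ε, hε⟩ := Submodule.mem_span_singleton.1 hEv
  have hT₁' : ∀ x, T₁ x = (ε * f v x - f w x) • v - f v x • w := fun x => by
    rw [hT₁x, show w' - v = ε • v - w by rw [hε, hE]; abel, map_sub, map_smul, LinearMap.sub_apply,
      LinearMap.smul_apply, smul_eq_mul]
  have hadj₁' : ∀ x, adj hm.ndf T₁ x = -T₁ x := fun x => by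
    rw [hadj₁, hT₁', show w' - v = ε • v - w by rw [hε, hE]; abel]
    module
  obtain ⟨z₀, hz₀0, hz₀⟩ := TensorMax.exists_perp ((f v).prod (f w))
    (by rw [finrank_prod, finrank_self]; omega)
  simp only [LinearMap.prod_apply, Function.prod, Prod.mk_eq_zero] at hz₀
  obtain ⟨y, hy⟩ := alt_exists_partner hm.ndf.1 hz₀0
  set m := y - f v y • w + f w y • v with hmdef
  have hwv : f w v = -1 := by rw [hm.fswap v w, hτ]
  have hvm : f v m = 0 := by simp [hmdef, hτ, hm.altf v]
  have hwm : f w m = 0 := by simp [hmdef, hwv, hm.altf w]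
  have hzm : f z₀ m = 1 := by
    simp [hmdef, hy, hm.fswap v z₀, hm.fswap w z₀, hz₀.1, hz₀.2]
  obtain ⟨A, hAv, hAw⟩ := tv_transitive_pairs hm.altf hm.ndf.1 (u := v) (v := w) (u' := v) (v' := w + z₀) hτ
    (by rw [map_add, hτ, hz₀.1, add_zero])
  obtain ⟨r', hrr', hcr'⟩ := exists_dual2 hm.alth hm.ndh hr
  have hr'c : r' ∉ F ∙ c := fun hmem => by
    obtain ⟨t, ht⟩ := Submodule.mem_span_singleton.1 hmem
    rw [← ht, map_smul, hm.alth.isRefl _ _ hcr, smul_zero] at hrr'
    exact zero_ne_one hrr'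
  obtain ⟨C, hCc, hCr⟩ := exists_isom_pair hm.alth hm.ndh hc hr hcr hc hr'c hcr'
  set T₂ : (Fin a → F) →ₗ[F] (Fin a → F) := A.1.toLinearMap ∘ₗ T₁ ∘ₗ (A⁻¹).1.toLinearMap with hT₂
  set S₂ : (Fin a → F) →ₗ[F] (Fin a → F) := A.1.toLinearMap ∘ₗ S₁ ∘ₗ (A⁻¹).1.toLinearMap with hS₂
  obtain ⟨z, hz, hX⟩ := e₁
  obtain ⟨z', hz', hX'⟩ := ((show hm.El M c r T₁ S₁ from ⟨z, hz, hX⟩).col hm hMc A).row hm hMr C
  rw [← hT₂, ← hS₂, hCc, hCr] at hX'
  have hadj₂ : ∀ x, adj hm.ndf T₂ x = -T₂ x := fun x => by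
    rw [adj_eq hm.altf hm.ndf (T' := -T₂) fun u y => by
      simp only [hT₂, LinearMap.comp_apply, LinearEquiv.coe_coe, LinearMap.neg_apply, map_neg]
      conv_lhs => rw [show y = A.1 ((A⁻¹).1 y) from (A.1.apply_symm_apply y).symm, mem_isomGroup.1 A.2,
        ← adj_right hm.altf hm.ndf, hadj₁', map_neg]
      conv_rhs => rw [show u = A.1 ((A⁻¹).1 u) from (A.1.apply_symm_apply u).symm, mem_isomGroup.1 A.2]]
    rfl
  set Sc : (Fin a → F) →ₗ[F] (Fin a → F) := -(T₁ ∘ₗ T₂ + T₂ ∘ₗ T₁) with hSc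
  have hrc : h r c = 0 := hm.alth.isRefl _ _ hcr
  have hr'c0 : h r' c = 0 := hm.alth.isRefl _ _ hcr'
  have hcen : hm.El M c r 0 Sc := by
    refine ⟨z * z' * (z' * z)⁻¹, M.mul_mem (M.mul_mem hz hz') (M.inv_mem (M.mul_mem hz' hz)), fun Y => ?_⟩
    obtain ⟨X, rfl⟩ := (z' * z).1.surjective Y
    rw [mul_apply' (z * z'), show ((z' * z)⁻¹).1 ((z' * z).1 X) = X from (z' * z).1.symm_apply_apply X,
      mul_apply', mul_apply', LinearMap.zero_apply, show adj hm.ndf (0 : (Fin a → F) →ₗ[F] (Fin a → F)) = 0 from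
        adj_eq hm.altf hm.ndf (by simp), LinearMap.zero_apply]
    simp only [hX, hX', hadj₂, hadj₁', hSc, map_add, map_neg, ct2_vecMulVec, hm.alth c, hm.alth r, hm.alth r', hcr,
      hrc, hcr', hr'c0, hrr', hm.hswap r r', zero_smul, one_smul, neg_smul, add_zero, zero_add, neg_zero,
      LinearMap.neg_apply, LinearMap.add_apply, LinearMap.comp_apply, add_vecMulVec, neg_vecMulVec, zero_vecMulVec,
      neg_neg]
    abel
  refine hm.start_of_centre hMc hc hr hcr hcen (n := m) fun hmem => ?_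
  have hAi : ∀ y x, f y ((A⁻¹).1 x) = f (A.1 y) x := fun y x => by
    rw [← mem_isomGroup.1 A.2 y]
    exact congrArg _ (A.1.apply_symm_apply x)
  have e1 : T₂ m = -v := by
    simp only [hT₂, LinearMap.comp_apply, LinearEquiv.coe_coe, hT₁', map_sub, map_smul, hAv, hAw, hAi,
      LinearMap.add_apply, map_add, hvm, hwm, hzm]
    module
  have e2 : T₁ v = v := by rw [hT₁', hm.altf v, hwv]; module
  have e3 : T₁ m = 0 := by rw [hT₁', hvm, hwm]; module
  have e4 : Sc m = v := by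
    rw [hSc]
    show -(T₁ (T₂ m) + T₂ (T₁ m)) = v
    rw [e1, e3, map_neg, e2, map_zero, add_zero, neg_neg]
  rw [e4] at hmem
  obtain ⟨t, ht⟩ := Submodule.mem_span_singleton.1 hmem
  have h1 := congrArg (f z₀) ht
  rw [map_smul, hzm, hm.fswap v z₀, hz₀.1, neg_zero, smul_eq_mul, mul_one] at h1
  exact hv0 (by rw [← ht, h1, zero_smul])

/-- Any non-scalar parameter leads to a Siegel element. -/
theorem start_of_el (hb : 5 ≤ b) (hex : (∃ μ : F, μ ≠ 0 ∧ μ ≠ 1) ∨ 4 ≤ a) (hc : c ≠ 0) (hr : r ∉ F ∙ c)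
    (hcr : h c r = 0) (e : hm.El M c r T S) (hns : ¬ ∃ s : F, ∀ v, T v = s • v) : Start₁ M h ∨ Start₂ M f := by
  by_cases hsa : ∀ u, f u (T u) = 0
  · obtain ⟨v, hv⟩ := exists_noneigen hns
    exact hm.start_of_selfadj hMc hMr hb hc hr hcr e hsa hv
  push Not at hsa
  obtain ⟨v, hτ⟩ := hsa
  by_cases hμ : ∃ μ : F, μ ≠ 0 ∧ μ ≠ 1
  swap
  · push Not at hμ
    exact Or.inr (hm.start_of_hyp hMc hMr (hex.resolve_left fun ⟨μ, h0, h1⟩ => h1 (hμ μ h0)) hc hr hcr e (hμ _ hτ))
  obtain ⟨μ, hμ0, hμ1⟩ := hμ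
  set D : F → ((Fin a → F) →ₗ[F] (Fin a → F)) → ((Fin a → F) →ₗ[F] (Fin a → F)) := fun t R =>
    t • ((f v ∘ₗ R).smulRight v - (f v).smulRight (R v)) - (t * t * f v (R v)) • (f v).smulRight v with hD
  have hcomm : ∀ t, hm.El M c r (D t T) (D t S) := fun t => e.comm hm hMc hcr v t
    (fun x => by simp [hD, smul_smul, mul_assoc, mul_comm, mul_left_comm])
    (fun x => by simp [hD, smul_smul, mul_assoc, mul_comm, mul_left_comm])
  have h1 := ((hcomm μ).scale hm hMr hc hr hcr (inv_ne_zero hμ0)).sub hm hcr (hcomm 1)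
  rw [show μ⁻¹ • D μ T - D 1 T = ((1 - μ) * f v (T v)) • (f v).smulRight v by
    simp only [hD]
    match_scalars <;> field_simp <;> ring] at h1
  exact hm.start_of_rank_one hMc hMr hc hr hcr (fun e' => hτ (by simp [e']))
    (mul_ne_zero (sub_ne_zero.2 (Ne.symm hμ1)) hτ) h1

end Model

end CfsgLib.Classical.TensorMaxS
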