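import Cfsg.Agent.Lib.Classical.TensorMaxS.Found
import Cfsg.Agent.Lib.Classical.TensorMaxS.Climb

/-!
# Slices orthogonal to a preserved slice
-/

set_option autoImplicit false
set_option linter.unusedSectionVars false

namespace CfsgLib.Classical.TensorMaxS

open Matrix Module QuadraticMap CfsgLib.Orth CfsgLib.Classical
open CfsgLib.Classical.TensorMax (IsTensor)

variable {F : Type*} [Field F] {a b : ℕ} {Q : QuadraticForm F (Matrix (Fin a) (Fin b) F)}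
  {f : (Fin a → F) →ₗ[F] (Fin a → F) →ₗ[F] F} {h : (Fin b → F) →ₗ[F] (Fin b → F) →ₗ[F] F}
  {M : Subgroup (orthGroup Q)}

theorem mem_span_of_forall {n : ℕ} {B : (Fin n → F) →ₗ[F] (Fin n → F) →ₗ[F] F} (hA : B.IsAlt) (hN : B.Nondegenerate)
    {b₀ y : Fin n → F} (e : ∀ γ, B b₀ γ = 0 → B γ y = 0) : y ∈ F ∙ b₀ := by
  by_contra hy
  obtain ⟨γ, hyγ, hγ⟩ := exists_dual2 hA hN hy
  have := e γ hγ
  rw [alt_swap hA γ y, hyγ] at this
  simp at this

namespace Model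

variable (hm : Model Q f h) (hMc : ∀ A : isomGroup f, hm.col A ∈ M) (hMr : ∀ C : isomGroup h, hm.row C ∈ M)
  (hb : 5 ≤ b) (hex : (∃ μ : F, μ ≠ 0 ∧ μ ≠ 1) ∨ 4 ≤ a)
include hm hMc hMr hb hex

/-- A conjugate of a transvection by an element twisting a slice. -/
theorem twisted {g : orthGroup Q} {v ε c : Fin b → F} {A₀ Ψ : (Fin a → F) →ₗ[F] (Fin a → F)} {κ : F} (hκ : κ ≠ 0)
    (hA₀ : ∀ u u', f (A₀ u) (A₀ u') = κ * f u u')
    (hR : ∀ u, g.1 (vecMulVec u v) = vecMulVec (A₀ u) ε + vecMulVec (Ψ u) c)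
    (hc : c ≠ 0) (hε : ε ∉ F ∙ c) (hcε : h c ε = 0) (hx : g * hm.row (tv hm.alth v 1) * g⁻¹ ∈ M) :
    (Start₁ M h ∨ Start₂ M f) ∨ ∃ s : F, ∀ u, Ψ u = s • A₀ u := by
  have hεc : h ε c = 0 := hm.alth.isRefl _ _ hcε
  have h1 : ∀ u, adj hm.ndf A₀ (A₀ u) = κ • u := fun u => eq_of_forall hm.ndf fun u' => by
    rw [adj_right hm.altf, hA₀, map_smul, smul_eq_mul]
  have hinj : Function.Injective A₀ := (injective_iff_map_eq_zero _).2 fun u hu => by
    have e := h1 u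
    rw [hu, map_zero] at e
    exact (smul_eq_zero.1 e.symm).resolve_left hκ
  have hsurj := LinearMap.injective_iff_surjective.1 hinj
  have h2 : ∀ p, A₀ (adj hm.ndf A₀ p) = κ • p := fun p => by
    obtain ⟨u, rfl⟩ := hsurj p
    rw [h1, map_smul]
  have hxX : ∀ X, (g * hm.row (tv hm.alth v 1) * g⁻¹).1 X = X -
      (vecMulVec (A₀ (adj hm.ndf A₀ (ct2 a h ε X) + adj hm.ndf Ψ (ct2 a h c X))) ε +
        vecMulVec (Ψ (adj hm.ndf A₀ (ct2 a h ε X) + adj hm.ndf Ψ (ct2 a h c X))) c) := fun X => by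
    have hw : ct2 a h v ((g⁻¹).1 X) = adj hm.ndf A₀ (ct2 a h ε X) + adj hm.ndf Ψ (ct2 a h c X) :=
      eq_of_forall hm.ndf fun u => by
        rw [← hm.pol_left, ← polar_isom g, hR, show g.1 ((g⁻¹).1 X) = X from g.1.apply_symm_apply X,
          show polar Q (vecMulVec (A₀ u) ε + vecMulVec (Ψ u) c) X =
            polarBilin Q (vecMulVec (A₀ u) ε + vecMulVec (Ψ u) c) X from rfl, map_add, LinearMap.add_apply,
          polarBilin_apply_apply, polarBilin_apply_apply, hm.pol_left, hm.pol_left, map_add, adj_right hm.altf,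
          adj_right hm.altf]
    show g.1 ((hm.row (tv hm.alth v 1)).1 ((g⁻¹).1 X)) = _
    rw [hm.row_tv, one_smul, map_sub, hw, hR, show g.1 ((g⁻¹).1 X) = X from g.1.apply_symm_apply X]
  have hadj : adj hm.ndf (-(Ψ ∘ₗ adj hm.ndf A₀)) = -(A₀ ∘ₗ adj hm.ndf Ψ) := adj_eq hm.altf hm.ndf fun u y => by
    simp only [LinearMap.neg_apply, LinearMap.comp_apply, map_neg, LinearMap.neg_apply, neg_inj]
    rw [← adj_right hm.altf, ← adj_left hm.ndf A₀ u]
  have e : hm.El M c ε (-(Ψ ∘ₗ adj hm.ndf A₀)) (-(Ψ ∘ₗ adj hm.ndf Ψ)) := by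
    refine ⟨hm.row (tv hm.alth ε (-κ)) * (g * hm.row (tv hm.alth v 1) * g⁻¹), M.mul_mem (hMr _) hx, fun X => ?_⟩
    rw [mul_apply', hm.row_tv, hxX, hadj]
    simp only [map_add, map_sub, map_smul, ct2_vecMulVec, hm.alth ε, hεc, zero_smul, smul_zero, add_zero, sub_zero, map_zero, h2,
      LinearMap.neg_apply, LinearMap.comp_apply, add_vecMulVec, smul_vecMulVec, neg_vecMulVec, neg_smul]
    abel
  by_cases hns : ∃ s : F, ∀ u, (-(Ψ ∘ₗ adj hm.ndf A₀)) u = s • u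
  · obtain ⟨s, hs⟩ := hns
    refine Or.inr ⟨-s / κ, fun u => ?_⟩
    have e1 := hs (A₀ u)
    rw [LinearMap.neg_apply, LinearMap.comp_apply, h1, map_smul] at e1
    rw [div_eq_mul_inv, mul_comm, mul_smul, eq_inv_smul_iff₀ hκ, neg_smul, ← e1, neg_neg]
  · exact Or.inl (hm.start_of_el hMc hMr hb hex hc hε hcε e hns)

/-- Either a Siegel element appears, or all slices orthogonal to a preserved one are preserved. -/
theorem slices_perp (ha : 0 < a) {g : orthGroup Q} (hg : g ∈ M) {b₀ c : Fin b → F} (hb0 : b₀ ≠ 0)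
    (hs : ∀ u, ∃ u', g.1 (vecMulVec u b₀) = vecMulVec u' c) :
    (Start₁ M h ∨ Start₂ M f) ∨
      ∀ v, h b₀ v = 0 → ∃ c', ∀ u, ∃ u', g.1 (vecMulVec u v) = vecMulVec u' c' := by
  classical
  set u₁ : Fin a → F := Pi.single ⟨0, ha⟩ 1 with hu₁def
  have hu₁ : u₁ ≠ 0 := by simp [hu₁def]
  have hc0 : c ≠ 0 := fun e => by
    obtain ⟨u', hu'⟩ := hs u₁
    rw [e, TensorMax.vecMulVec_zero', LinearEquiv.map_eq_zero_iff, TensorMax.vecMulVec_eq_zero_iff'] at hu'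
    exact hu'.elim hu₁ hb0
  obtain ⟨d', hd'⟩ := alt_exists_partner hm.ndh.1 hc0
  set d := -d' with hddef
  have hd : h d c = 1 := by rw [hddef, map_neg, LinearMap.neg_apply, hm.hswap c d', hd', neg_neg]
  set A₀ : (Fin a → F) →ₗ[F] (Fin a → F) := ct2 a h d ∘ₗ g.1.toLinearMap ∘ₗ TensorMaxU.sl2 a b₀ with hA₀
  have hgA : ∀ u, g.1 (vecMulVec u b₀) = vecMulVec (A₀ u) c := fun u => by
    obtain ⟨u', hu'⟩ := hs u
    have : A₀ u = u' := by
      show ct2 a h d (g.1 (vecMulVec u b₀)) = u'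
      rw [hu', ct2_vecMulVec, hd, one_smul]
    rw [this, hu']
  have hinj : Function.Injective A₀ := (injective_iff_map_eq_zero _).2 fun u hu =>
    TensorMaxU.sl2_injective (a := a) hb0 (by
      rw [map_zero]; exact g.1.map_eq_zero_iff.1 (show g.1 (vecMulVec u b₀) = 0 by rw [hgA, hu, zero_vecMulVec]))
  have hsurj := LinearMap.injective_iff_surjective.1 hinj
  have hker : ∀ Y, ct2 a h b₀ Y = 0 → ct2 a h c (g.1 Y) = 0 := fun Y hY => eq_of_forall hm.ndf fun u => by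
    obtain ⟨u', rfl⟩ := hsurj u
    rw [← hm.pol_left, ← hgA, polar_isom, hm.pol_left, hY, map_zero, map_zero]
  have hperp : ∀ X, ct2 a h c X = 0 → ct2 a h b₀ (g.1.symm X) = 0 := fun X hX => eq_of_forall hm.ndf fun u => by
    rw [← hm.pol_left, ← polar_isom g, hgA, g.1.apply_symm_apply, hm.pol_left, hX, map_zero, map_zero]
  -- the translations of the quotient
  set T : (Fin b → F) → (Fin b → F) → (Fin a → F) →ₗ[F] (Fin a → F) := fun γ δ =>
    A₀ ∘ₗ ct2 a h γ ∘ₗ g.1.symm.toLinearMap ∘ₗ TensorMaxU.sl2 a δ with hTdef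
  by_cases hsc : ∀ γ δ, h b₀ γ = 0 → h c δ = 0 → ∃ s : F, ∀ u, T γ δ u = s • u
  swap
  · push Not at hsc
    obtain ⟨γ, δ, hγ, hδ, hns⟩ := hsc
    left
    have hδc : δ ∉ F ∙ c := fun hmem => by
      obtain ⟨t, rfl⟩ := Submodule.mem_span_singleton.1 hmem
      obtain ⟨u, hu⟩ := hns 0
      refine hu ?_
      obtain ⟨u', rfl⟩ := hsurj u
      show A₀ (ct2 a h γ (g.1.symm (vecMulVec (A₀ u') (t • c)))) = (0 : F) • A₀ u'
      rw [vecMulVec_smul, map_smul, ← hgA, g.1.symm_apply_apply, map_smul, ct2_vecMulVec, hm.alth.isRefl _ _ hγ]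
      simp
    set G := hm.row (sv hm.alth b₀ γ (-1)) with hG
    have hGY : ∀ Y, ct2 a h b₀ Y = 0 → G.1 Y = Y + vecMulVec (ct2 a h γ Y) b₀ := fun Y hY => by
      funext i
      show (sv hm.alth b₀ γ (-1)).1 (Y i) = Y i + vecMulVec (ct2 a h γ Y) b₀ i
      rw [sv_apply hm.alth hγ, TensorMaxU.vecMulVec_row, ct2_apply, hm.hswap b₀ (Y i), hm.hswap γ (Y i),
        show h b₀ (Y i) = 0 from congrFun hY i]
      module
    set k := g * G * g⁻¹ with hk
    have hkM : k ∈ M := M.mul_mem (M.mul_mem hg (hMr _)) (M.inv_mem hg)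
    have hkR : ∀ u, k.1 (vecMulVec u δ) = vecMulVec ((LinearMap.id : (Fin a → F) →ₗ[F] _) u) δ +
        vecMulVec (T γ δ u) c := fun u => by
      show g.1 (G.1 (g.1.symm (vecMulVec u δ))) = _
      rw [hGY _ (hperp _ (by rw [ct2_vecMulVec, hδ, zero_smul])), map_add, g.1.apply_symm_apply, hgA,
        LinearMap.id_apply]
      rfl
    refine (hm.twisted hMc hMr hb hex one_ne_zero (A₀ := LinearMap.id) (fun u u' => by simp) hkR hc0 hδc hδ
      (M.mul_mem (M.mul_mem hkM (hMr _)) (M.inv_mem hkM))).resolve_right ?_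
    rintro ⟨s, hs'⟩
    obtain ⟨u, hu⟩ := hns s
    exact hu (hs' u)
  -- all translations are scalar
  obtain ⟨n₁', hn₁'⟩ := alt_exists_partner hm.ndf.1 hu₁
  set n₁ := -n₁' with hn₁def
  have hn₁ : f n₁ u₁ = 1 := by rw [hn₁def, map_neg, LinearMap.neg_apply, hm.fswap u₁ n₁', hn₁', neg_neg]
  let L : (Fin b → F) → ((Fin b → F) →ₗ[F] F) := fun γ =>
    f n₁ ∘ₗ A₀ ∘ₗ ct2 a h γ ∘ₗ g.1.symm.toLinearMap ∘ₗ TensorMaxU.sl1 b u₁
  set Φ : (Fin b → F) → (Fin b → F) := fun γ => (LinearMap.BilinForm.toDual h hm.ndh).symm (L γ) with hΦdef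
  have hΦ : ∀ γ δ, h (Φ γ) δ = f n₁ (T γ δ u₁) := fun γ δ => by
    rw [show h (Φ γ) δ = LinearMap.BilinForm.toDual h hm.ndh (Φ γ) δ from rfl, hΦdef, LinearEquiv.apply_symm_apply]
    rfl
  have hrel : ∀ γ, h b₀ γ = 0 → ∀ X, ct2 a h c X = 0 → A₀ (ct2 a h γ (g.1.symm X)) = ct2 a h (Φ γ) X := by
    intro γ hγ X hX
    rw [TensorMaxU.matrix_eq_sum X]
    simp only [map_sum, ct2_vecMulVec]
    refine Finset.sum_congr rfl fun i _ => ?_
    obtain ⟨s, hs'⟩ := hsc γ (X i) hγ (congrFun hX i)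
    rw [hΦ, hs' u₁, map_smul, hn₁, smul_eq_mul, mul_one, ← hs']
    rfl
  have hΦc : ∀ γ, h b₀ γ = 0 → h (Φ γ) c = 0 := fun γ hγ => by
    obtain ⟨u', hu'⟩ := hsurj u₁
    rw [hΦ]
    show f n₁ (A₀ (ct2 a h γ (g.1.symm (vecMulVec u₁ c)))) = 0
    rw [← hu', ← hgA, g.1.symm_apply_apply, ct2_vecMulVec, hm.alth.isRefl _ _ hγ, zero_smul, map_zero, map_zero]
  have hgΦ : ∀ γ, h b₀ γ = 0 → ∀ Y, ct2 a h b₀ Y = 0 → ct2 a h (Φ γ) (g.1 Y) = A₀ (ct2 a h γ Y) :=
    fun γ hγ Y hY => by rw [← hrel γ hγ _ (hker Y hY), g.1.symm_apply_apply]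
  obtain ⟨r₀', hr₀'⟩ := alt_exists_partner hm.ndf.1 (u := A₀ u₁) fun e => hu₁ (hinj (by rw [e, map_zero]))
  set r₀ := -r₀' with hr₀def
  have hr₀ : f r₀ (A₀ u₁) = 1 := by rw [hr₀def, map_neg, LinearMap.neg_apply, hm.fswap (A₀ u₁) r₀', hr₀', neg_neg]
  set E : (Fin b → F) → (Fin b → F) := fun v => ct1 b f r₀ (g.1 (vecMulVec u₁ v)) with hEdef
  have hcE : ∀ v, h b₀ v = 0 → h c (E v) = 0 := fun v hv => by
    rw [hEdef, ← hm.pol_left', hm.pol_left, hker _ (by rw [ct2_vecMulVec, hv, zero_smul]), map_zero]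
  have hΦE : ∀ γ v, h b₀ γ = 0 → h b₀ v = 0 → h (Φ γ) (E v) = h γ v := fun γ v hγ hv => by
    rw [hEdef, ← hm.pol_left', hm.pol_left, hgΦ γ hγ _ (by rw [ct2_vecMulVec, hv, zero_smul]), ct2_vecMulVec,
      map_smul, map_smul, hr₀, smul_eq_mul, mul_one]
  set Ψ : (Fin b → F) → (Fin a → F) →ₗ[F] (Fin a → F) := fun v =>
    ct2 a h d ∘ₗ g.1.toLinearMap ∘ₗ TensorMaxU.sl2 a v - h d (E v) • A₀ with hΨdef
  have hgv : ∀ v, h b₀ v = 0 → ∀ u, g.1 (vecMulVec u v) = vecMulVec (A₀ u) (E v) + vecMulVec (Ψ v u) c := by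
    intro v hv u
    have hY : ct2 a h b₀ (vecMulVec u v) = 0 := by rw [ct2_vecMulVec, hv, zero_smul]
    have hrow : ∀ i, (g.1 (vecMulVec u v) - vecMulVec (A₀ u) (E v)) i ∈ F ∙ c := fun i => by
      set y := (g.1 (vecMulVec u v) - vecMulVec (A₀ u) (E v)) i with hy
      have hyc : h c y = 0 := by
        show ct2 a h c (g.1 (vecMulVec u v) - vecMulVec (A₀ u) (E v)) i = 0
        rw [map_sub, hker _ hY, ct2_vecMulVec, hcE v hv, zero_smul, sub_zero]; rfl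
      have hyΦ : ∀ γ, h b₀ γ = 0 → h (Φ γ) y = 0 := fun γ hγ => by
        show ct2 a h (Φ γ) (g.1 (vecMulVec u v) - vecMulVec (A₀ u) (E v)) i = 0
        rw [map_sub, hgΦ γ hγ _ hY, ct2_vecMulVec, ct2_vecMulVec, hΦE γ v hγ hv, map_smul, sub_self]; rfl
      set X := g.1.symm (vecMulVec u₁ y) with hX
      have hXrow : ∀ j, X j ∈ F ∙ b₀ := fun j => mem_span_of_forall hm.alth hm.ndh fun γ hγ => by
        have e := hrel γ hγ (vecMulVec u₁ y) (by rw [ct2_vecMulVec, hyc, zero_smul])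
        rw [ct2_vecMulVec, hyΦ γ hγ, zero_smul] at e
        exact congrFun ((injective_iff_map_eq_zero _).1 hinj _ e) j
      choose t ht using fun j => Submodule.mem_span_singleton.1 (hXrow j)
      have e : vecMulVec u₁ y = vecMulVec (A₀ t) c := by
        rw [← hgA, show vecMulVec t b₀ = X from funext fun j => by rw [TensorMaxU.vecMulVec_row]; exact ht j, hX,
          g.1.apply_symm_apply]
      exact TensorMaxU.right_mem_span e hu₁
    choose t ht using fun i => Submodule.mem_span_singleton.1 (hrow i)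
    have hY' : g.1 (vecMulVec u v) = vecMulVec (A₀ u) (E v) + vecMulVec t c := by
      rw [show vecMulVec t c = g.1 (vecMulVec u v) - vecMulVec (A₀ u) (E v) from
        funext fun i => by rw [TensorMaxU.vecMulVec_row]; exact ht i]
      abel
    rw [hY']
    congr
    show t = ct2 a h d (g.1 (vecMulVec u v)) - h d (E v) • A₀ u
    rw [hY', map_add, ct2_vecMulVec, ct2_vecMulVec, hd, one_smul, add_sub_cancel_left]
  by_cases hall : ∀ v, h b₀ v = 0 → ∃ c', ∀ u, ∃ u', g.1 (vecMulVec u v) = vecMulVec u' c'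
  · exact Or.inr hall
  push Not at hall
  obtain ⟨v, hv, hns⟩ := hall
  have hvb : v ∉ F ∙ b₀ := fun hmem => by
    obtain ⟨t, rfl⟩ := Submodule.mem_span_singleton.1 hmem
    obtain ⟨u, hu⟩ := hns c
    exact hu (t • A₀ u) (by rw [vecMulVec_smul, map_smul, hgA, smul_vecMulVec])
  obtain ⟨v', hvv', hb0v'⟩ := exists_dual2 hm.alth hm.ndh hvb
  set γ₀ := -v' with hγ₀
  have hγ₀b : h b₀ γ₀ = 0 := by rw [hγ₀, map_neg, hb0v', neg_zero]
  have hεc : E v ∉ F ∙ c := fun hmem => by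
    obtain ⟨t, ht⟩ := Submodule.mem_span_singleton.1 hmem
    have e := hΦE γ₀ v hγ₀b hv
    rw [← ht, map_smul, hΦc γ₀ hγ₀b, smul_zero, hγ₀, map_neg, LinearMap.neg_apply, hm.hswap v v', hvv',
      neg_neg] at e
    exact zero_ne_one e
  have key : ∀ u u', f (A₀ u) (A₀ u') * h (E v) (E v') = f u u' := fun u u' => by
    have e := polar_isom g (vecMulVec u v) (vecMulVec u' v')
    rw [hgv v hv u, hgv v' hb0v' u', hm.pol, hvv', mul_one] at e
    rw [← e, show polar Q (vecMulVec (A₀ u) (E v) + vecMulVec (Ψ v u) c)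
      (vecMulVec (A₀ u') (E v') + vecMulVec (Ψ v' u') c) = polarBilin Q (vecMulVec (A₀ u) (E v) + vecMulVec (Ψ v u) c)
      (vecMulVec (A₀ u') (E v') + vecMulVec (Ψ v' u') c) from rfl]
    simp only [map_add, LinearMap.add_apply, polarBilin_apply_apply, hm.pol, hm.alth c, hcE v' hb0v',
      hm.alth.isRefl _ _ (hcE v hv), mul_zero, add_zero]
  set κ := (h (E v) (E v'))⁻¹ with hκdef
  have hne : h (E v) (E v') ≠ 0 := fun e => by
    have e' := key u₁ n₁'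
    rw [e, mul_zero, hn₁'] at e'
    exact zero_ne_one e'
  refine Or.inl ((hm.twisted hMc hMr hb hex (κ := κ) (inv_ne_zero hne) (fun u u' => ?_) (hgv v hv) hc0 hεc (hcE v hv)
    (M.mul_mem (M.mul_mem hg (hMr _)) (M.inv_mem hg))).resolve_right ?_)
  · rw [hκdef, eq_inv_mul_iff_mul_eq₀ hne, mul_comm, key]
  · rintro ⟨s, hs'⟩
    obtain ⟨u, hu⟩ := hns (E v + s • c)
    exact hu (A₀ u) (by rw [hgv v hv, hs', vecMulVec_add, vecMulVec_smul, smul_vecMulVec])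

/-- A full slice in the climb gives a Siegel element. -/
theorem start_of_slice (ha : 0 < a) {g : orthGroup Q} (hg : g ∈ M) (hgT : ¬ IsTensor g.1) {b₀ c : Fin b → F}
    (hb0 : b₀ ≠ 0) (hs : ∀ u, ∃ u', g.1 (vecMulVec u b₀) = vecMulVec u' c) : Start₁ M h ∨ Start₂ M f := by
  by_contra hno
  have h1 := fun {b₁ c₁ : Fin b → F} (hb1 : b₁ ≠ 0) (hs1 : ∀ u, ∃ u', g.1 (vecMulVec u b₁) = vecMulVec u' c₁) =>
    (hm.slices_perp hMc hMr hb hex ha hg hb1 hs1).resolve_left hno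
  refine hgT (TensorMax.isTensor_of_forall ha (by omega) g.1 fun y _ => ?_)
  obtain ⟨v, hv0, hv⟩ := TensorMax.exists_perp ((h b₀).prod (h y))
    (by rw [finrank_prod, finrank_self]; omega)
  simp only [LinearMap.prod_apply, Function.prod, Prod.mk_eq_zero] at hv
  obtain ⟨c', hc'⟩ := h1 hb0 hs v hv.1
  exact h1 hv0 hc' y (hm.alth.isRefl _ _ hv.2)

end Model

end CfsgLib.Classical.TensorMaxS
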